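import Cfsg.Agent.U62Three.C.Setup

/-!
# Elementary abelian subgroups of the normaliser of `V`
-/

set_option autoImplicit false
set_option linter.unusedSectionVars false

open Subgroup

namespace Cfsg.Agent.U62Three.C

open U62Rec K.Code Code TwoClassClosed

local notation "⊚" => U62Rec.cmp

universe u

variable {M : Type u} [Group M] {L V : Subgroup M} (T : Tw L V)

/-- An elementary abelian 2-group. -/
def Elem (S : Subgroup M) : Prop := ∀ x ∈ S, x * x = 1

theorem Elem.comm {S : Subgroup M} (h : Elem S) {x y : M} (hx : x ∈ S) (hy : y ∈ S) : Commute x y := by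
  have h1 := h _ (S.mul_mem hx hy)
  calc x * y = (x * y)⁻¹ := (inv_eq_of_mul_eq_one_right h1).symm
    _ = y * x := by
      rw [mul_inv_rev, inv_eq_of_mul_eq_one_right (h x hx), inv_eq_of_mul_eq_one_right (h y hy)]

theorem Elem.inv {S : Subgroup M} (h : Elem S) {x : M} (hx : x ∈ S) : x⁻¹ = x :=
  inv_eq_of_mul_eq_one_right (h x hx)

theorem Elem.map {S : Subgroup M} (h : Elem S) (g : M) : Elem (S.map (MulAut.conj g).toMonoidHom) := by
  rintro _ ⟨x, hx, rfl⟩
  rw [← map_mul, h x hx, map_one]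

namespace Tw

include T

theorem elem_V : Elem V := fun _ hx => T.sq hx

theorem card_V : Nat.card V = 256 := by
  classical
  let f : Fin 256 → V := fun a => ⟨T.vec a, T.vec_mem a a.2⟩
  have hf : Function.Bijective f :=
    ⟨fun a b h => Fin.ext (T.vec_inj a.2 b.2 (congrArg Subtype.val h)), fun x => by
      obtain ⟨a, ha, e⟩ := T.vec_surj x x.2
      exact ⟨⟨a, ha⟩, Subtype.ext e⟩⟩
  rw [← Nat.card_eq_of_bijective f hf, Nat.card_fin]

theorem code_sq {x : M} (hx : x ∈ L) (h2 : x * x = 1) : ⊚ (T.code x) (T.code x) = idm := by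
  rw [← T.code_mul x hx x hx, h2, T.code_one]

theorem code_commute {x y : M} (hx : x ∈ L) (hy : y ∈ L) (h : Commute x y) :
    ⊚ (T.code x) (T.code y) = ⊚ (T.code y) (T.code x) := by
  rw [← T.code_mul x hx y hy, h.eq, T.code_mul y hy x hx]

theorem code_ne {x : M} (hx : x ∈ L) (h : x ∉ V) : T.code x ≠ idm := fun e => h (T.ker x hx e)

/-- A bound from the codes that occur and the vectors that occur. -/
theorem card_elem_le [Finite M] {S : Subgroup M} (hSL : S ≤ L) {Cs F : List ℕ}
    (hC : ∀ x ∈ S, T.code x ∈ Cs) (hF : ∀ u < 256, T.vec u ∈ S → u ∈ F) :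
    Nat.card S ≤ F.length * Cs.length := by
  classical
  have := Fintype.ofFinite M
  rw [Nat.card_eq_fintype_card, ← Finset.card_univ]
  refine (Finset.card_le_mul_card_image (f := fun x : S => T.code x) _ F.length ?_).trans
    (Nat.mul_le_mul_left _ (le_trans (Finset.card_le_card (t := Cs.toFinset) ?_) (List.toFinset_card_le _)))
  · intro c hc
    obtain ⟨x₀, -, hx₀⟩ := Finset.mem_image.1 hc
    refine le_trans ?_ (List.toFinset_card_le F)
    refine le_trans (Finset.card_le_card (t := F.toFinset.biUnion fun u =>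
      Finset.univ.filter fun x : S => (x₀ : M)⁻¹ * x = T.vec u) ?_) ?_
    · intro x hx
      rw [Finset.mem_filter] at hx
      have hxL := L.mul_mem (L.inv_mem (hSL x₀.2)) (hSL x.2)
      have hxV : (x₀ : M)⁻¹ * x ∈ V := T.ker _ hxL (by
        rw [T.code_mul _ (L.inv_mem (hSL x₀.2)) _ (hSL x.2), hx.2, ← hx₀, (T.code_inv (hSL x₀.2)).1])
      obtain ⟨u, hu, hue⟩ := T.vec_surj _ hxV
      refine Finset.mem_biUnion.2 ⟨u, List.mem_toFinset.2 (hF u hu ?_), Finset.mem_filter.2
        ⟨Finset.mem_univ _, hue.symm⟩⟩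
      rw [hue]
      exact S.mul_mem (S.inv_mem x₀.2) x.2
    · refine (Finset.card_biUnion_le).trans ?_
      refine le_trans (Finset.sum_le_card_nsmul _ _ 1 fun u _ => ?_) (by simp)
      refine Finset.card_le_one.2 fun a ha b hb => ?_
      rw [Finset.mem_filter] at ha hb
      exact Subtype.ext (mul_left_cancel (ha.2.trans hb.2.symm))
  · intro c hc
    obtain ⟨x, -, rfl⟩ := Finset.mem_image.1 hc
    exact List.mem_toFinset.2 (hC x x.2)

theorem mem_fixList {a x : M} (ha : a ∈ L) {u : ℕ} (hu : u < 256) (hx : T.vec u = x) (h : Commute a x) :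
    u ∈ fixList (T.code a) :=
  fixList_iff.2 ⟨hu, (T.commute_vec ha hu).1 (hx ▸ h)⟩

/-- Two different nontrivial codes in an elementary abelian group fixing `1` make it small. -/
theorem elem_small [Finite M] {S : Subgroup M} (hSL : S ≤ L) (hS : Elem S)
    (h1 : ∀ x ∈ S, Commute x (T.vec 1)) {x y : M} (hx : x ∈ S) (hy : y ∈ S) (hxV : x ∉ V) (hyV : y ∉ V)
    (hxy : T.code x ≠ T.code y) : Nat.card S ≤ 32 := by
  have f1 : ∀ z ∈ S, app (T.code z) 1 = 1 := fun z hz => (T.commute_vec (hSL hz) (by norm_num)).1 (h1 z hz)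
  obtain ⟨h8, h3⟩ := pair_bound (T.good x (hSL hx)) (T.code_sq (hSL hx) (hS x hx)) (T.code_ne (hSL hx) hxV)
    (f1 x hx) (T.good y (hSL hy)) (T.code_sq (hSL hy) (hS y hy)) (T.code_ne (hSL hy) hyV) (f1 y hy) hxy
    (T.code_commute (hSL hx) (hSL hy) (hS.comm hx hy))
  refine (T.card_elem_le hSL
    (Cs := [idm, T.code x, T.code y, ⊚ (T.code x) (T.code y)])
    (F := (fixList (T.code x)).filter fun v => Nat.beq (app (T.code y) v) v) ?_ ?_).trans ?_
  · intro z hz
    by_cases e : T.code z = idm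
    · simp [e]
    · rcases h3 _ (T.good z (hSL hz)) (T.code_sq (hSL hz) (hS z hz)) e (f1 z hz)
        (T.code_commute (hSL hx) (hSL hz) (hS.comm hx hz))
        (T.code_commute (hSL hy) (hSL hz) (hS.comm hy hz)) with e' | e' | e' <;> simp [e']
  · intro u hu hmem
    refine List.mem_filter.2 ⟨T.mem_fixList (hSL hx) hu rfl (hS.comm hx hmem), ?_⟩
    rw [(T.commute_vec (hSL hy) hu).1 (hS.comm hy hmem), Nat.beq_refl]
  · simp only [List.length_cons, List.length_nil]
    omega

/-- A big elementary abelian subgroup fixing `1` and not inside `V` consists of one transvection and its fixed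
vectors. -/
theorem elem_big [Finite M] {S : Subgroup M} (hSL : S ≤ L) (hS : Elem S)
    (h1 : ∀ x ∈ S, Commute x (T.vec 1)) (hSV : ¬ S ≤ V) (hcard : 64 ≤ Nat.card S) :
    ∃ s ∈ S, s ∉ V ∧ isT (T.code s) = true ∧ app (T.code s) 2 = 2 ∧ Nat.card S ≤ 128 ∧
      (∀ x ∈ S, x ∈ V ∨ T.code x = T.code s) ∧
      (Nat.card S = 128 → ∀ u ∈ fixList (T.code s), T.vec u ∈ S) := by
  obtain ⟨s, hs, hsV⟩ := SetLike.not_le_iff_exists.1 hSV
  have hsL := hSL hs
  have hall : ∀ x ∈ S, x ∈ V ∨ T.code x = T.code s := fun x hx => by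
    by_contra hne
    rw [not_or] at hne
    have := T.elem_small hSL hS h1 hs hx hsV hne.1 (fun e => hne.2 e.symm)
    omega
  have hCs : ∀ x ∈ S, T.code x ∈ [idm, T.code s] := fun x hx => by
    rcases hall x hx with e | e
    · simp [T.code_vec e]
    · simp [e]
  have hb := T.card_elem_le hSL hCs (F := fixList (T.code s))
    (fun u hu hmem => T.mem_fixList hsL hu rfl (hS.comm hs hmem))
  simp only [List.length_cons, List.length_nil] at hb
  rcases inv1_big (T.good s hsL) (T.code_sq hsL (hS s hs)) (T.code_ne hsL hsV)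
    ((T.commute_vec hsL (by norm_num)).1 (h1 s hs)) with h16 | ⟨hT, h2⟩
  · exfalso; omega
  refine ⟨s, hs, hsV, hT, h2, ?_, hall, fun h128 u hu => ?_⟩
  · simp only [isT, Nat.beq_eq] at hT
    omega
  · by_contra hne
    have h' := T.card_elem_le hSL hCs (F := (fixList (T.code s)).erase u) (fun v hv hmem => by
      refine (List.mem_erase_of_ne ?_).2 (T.mem_fixList hsL hv rfl (hS.comm hs hmem))
      rintro rfl
      exact hne hmem)
    rw [List.length_erase_of_mem hu] at h'
    simp only [isT, Nat.beq_eq] at hT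
    simp only [List.length_cons, List.length_nil, hT] at h'
    omega

/-- `V` is the only elementary abelian subgroup of order 256 fixing a vector of value one. -/
theorem elem_unique [Finite M] {S : Subgroup M} (hSL : S ≤ L) (hS : Elem S)
    (h1 : ∀ x ∈ S, Commute x (T.vec 1)) (hcard : 256 ≤ Nat.card S) : S = V := by
  by_cases hSV : S ≤ V
  · exact eq_of_le_of_card_ge hSV (by rw [T.card_V]; exact hcard)
  · obtain ⟨s, -, -, -, -, h, -⟩ := T.elem_big hSL hS h1 hSV (by omega)
    omega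

end Tw

theorem qv_xor255 {a b : ℕ} (ha : qv 255 a = false) (hb : qv 255 b = false)
    (hab : qv 255 (a ^^^ b) = false) : fv a b = false := by
  rw [qv_xor, ha, hb] at hab
  simpa using hab

/-- A subgroup of at least eight vectors inside six coordinates has a vector of value one. -/
theorem exists_one_six {l : List ℕ} (hl : noSing3 l = true) {I : Finset ℕ} (hIl : ∀ u ∈ I, u ∈ l)
    (hx : ∀ a ∈ I, ∀ b ∈ I, a ^^^ b ∈ I) (h : 8 ≤ I.card) : ∃ u ∈ I, qv 255 u = true := by
  by_contra hne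
  push Not at hne
  have h0 : ∀ u ∈ I, qv 255 u = false := fun u hu => by simpa using hne u hu
  have hmem : ∀ u ∈ I, u ≠ 0 → u ∈ sing l := fun u hu hu0 =>
    List.mem_filter.2 ⟨hIl u hu, by simp [beq_false hu0, h0 u hu]⟩
  have hf : ∀ a ∈ I, ∀ b ∈ I, fv a b = false := fun a ha b hb =>
    qv_xor255 (h0 a ha) (h0 b hb) (h0 _ (hx a ha b hb))
  have pick : ∀ J : Finset ℕ, J.card < 8 → ∃ u ∈ I, u ∉ J := fun J hJ =>
    Finset.exists_mem_notMem_of_card_lt_card (by omega)
  obtain ⟨a, ha, ha'⟩ := pick {0} (by simp)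
  obtain ⟨b, hb, hb'⟩ := pick {0, a} (Finset.card_le_two.trans_lt (by norm_num))
  obtain ⟨c, hc, hc'⟩ := pick {0, a, b, a ^^^ b} (Finset.card_le_four.trans_lt (by norm_num))
  simp only [Finset.mem_insert, Finset.mem_singleton, not_or] at ha' hb' hc'
  exact hc'.2.2.2 (sing_bound hl (hmem a ha ha') (hmem b hb hb'.1) (hmem c hc hc'.1) (hf a ha b hb)
    (hf a ha c hc) (hf b hb c hc) hb'.2 hc'.2.1 hc'.2.2.1)

/-- A subgroup of at least 32 vectors has a vector of value one. -/
theorem exists_one {I : Finset ℕ} (h256 : ∀ u ∈ I, u < 256)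
    (hx : ∀ a ∈ I, ∀ b ∈ I, a ^^^ b ∈ I) (h : 32 ≤ I.card) : ∃ u ∈ I, qv 255 u = true := by
  classical
  have hmap : ∀ u ∈ I, u / 64 ∈ Finset.range 4 := fun u hu => by
    rw [Finset.mem_range]; have := h256 u hu; omega
  obtain ⟨k, -, hk⟩ := Finset.exists_le_card_fiber_of_mul_le_card_of_maps_to (n := 8) hmap ⟨0, by simp⟩
    (by simpa using h)
  obtain ⟨J, hJ⟩ : ∃ J, I.filter (fun u => u / 64 = k) = J := ⟨_, rfl⟩
  rw [hJ] at hk
  obtain ⟨u₀, hu₀⟩ := Finset.card_pos.1 (lt_of_lt_of_le (by norm_num) hk)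
  have hinj : Set.InjOn (fun u => u ^^^ u₀) J := fun a _ b _ e => Nat.xor_left_injective e
  have hsub : J.image (fun u => u ^^^ u₀) ⊆ I.filter (fun u => u < 64) := by
    intro v hv
    obtain ⟨u, hu, rfl⟩ := Finset.mem_image.1 hv
    rw [← hJ, Finset.mem_filter] at hu hu₀
    refine Finset.mem_filter.2 ⟨hx u hu.1 u₀ hu₀.1, ?_⟩
    have he : (u ^^^ u₀) / 2 ^ 6 = 0 := by
      rw [Nat.xor_div_two_pow, show u / 2 ^ 6 = u₀ / 2 ^ 6 from hu.2.trans hu₀.2.symm, Nat.xor_self]
    omega
  have hcard : 8 ≤ (I.filter (fun u => u < 64)).card := by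
    refine le_trans ?_ (Finset.card_le_card hsub)
    rwa [Finset.card_image_of_injOn hinj]
  obtain ⟨u, hu, hq⟩ := exists_one_six sing_low (I := I.filter (fun u => u < 64))
    (fun u hu => List.mem_range.2 (Finset.mem_filter.1 hu).2)
    (fun a ha b hb => Finset.mem_filter.2 ⟨hx a (Finset.mem_filter.1 ha).1 b (Finset.mem_filter.1 hb).1,
      Nat.xor_lt_two_pow (n := 6) (Finset.mem_filter.1 ha).2 (Finset.mem_filter.1 hb).2⟩) hcard
  exact ⟨u, (Finset.mem_filter.1 hu).1, hq⟩

end Cfsg.Agent.U62Three.C
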