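import Cfsg.Agent.U62Three.C.Three

/-!
# The centraliser of a line: the tower at rank three
-/

set_option autoImplicit false
set_option linter.unusedSectionVars false
set_option maxRecDepth 20000

open Subgroup

namespace Cfsg.Agent.U62Three.C

open U62Rec K.Code Code TwoClassClosed

local notation "⊚" => U62Rec.cmp

universe u

theorem mul4_iff : ∀ v < 256, (fv v 1 = false ∧ fv v 2 = false) ↔ v % 4 = 0 := by decide +kernel

theorem high_units : ∀ k < 64, qv 255 (4 * k) = true → memB (4 * k) units0 = true := by decide +kernel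

theorem twenty : qv 255 20 = false ∧ units0.all (fun n => !Nat.beq n 20) = true := by decide +kernel

theorem units0_mem {n : ℕ} (hn : n ∈ units0) :
    n < 256 ∧ qv 255 n = true ∧ n % 4 = 0 ∧ fv n 1 = false ∧ fv n 2 = false := by
  simp only [units0, units, List.mem_filter, List.mem_range, Bool.and_eq_true, Bool.not_eq_eq_eq_not,
    Bool.not_true] at hn
  exact ⟨hn.1, hn.2.1.1, (mul4_iff n hn.1).1 ⟨hn.2.1.2, hn.2.2⟩, hn.2.1.2, hn.2.2⟩

theorem mem_units0 {n : ℕ} (h : n < 256) (hq : qv 255 n = true) (h4 : n % 4 = 0) : n ∈ units0 := by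
  obtain ⟨k, rfl⟩ : 4 ∣ n := Nat.dvd_of_mod_eq_zero h4
  exact memB_iff.1 (high_units k (by omega) hq)

/-- An involution fixing `1` and `2` is a transvection fixing a vector of `units0`. -/
theorem inv12_T {a : ℕ} (ha : Good a) (h2 : ⊚ a a = idm) (hne : a ≠ idm) (h1 : app a 1 = 1)
    (h12 : app a 2 = 2) : isT a = true := by
  have h := inv12_ok
  rw [List.all_eq_true] at h
  have h' := h a (mem_inv1 ha h2 hne h1)
  simp only [h12, Nat.beq_refl, Bool.not_true, Bool.false_or, Bool.and_eq_true] at h'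
  exact h'.1

variable {M : Type u} [Group M] {L V : Subgroup M}

namespace Tw

variable (T : Tw L V)

include T

/-- The centraliser of `1`, `2` and a vector of `units0` lies in `L`. -/
theorem cent_three [Finite M] {n : ℕ} (hn : n ∈ units0) {g : M} (h1 : Commute g (T.vec 1))
    (h2 : Commute g (T.vec 2)) (h : Commute g (T.vec n)) : g ∈ L := by
  obtain ⟨w, w1, w2, w4⟩ := unit_word hn
  obtain ⟨l, hl, hlc⟩ := T.att_word (ev_att w)
  have key : ∀ a b, a < 256 → app (ev w) a = b → Commute g (T.vec a) → Commute (l * g * l⁻¹) (T.vec b) := by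
    intro a b ha e hc
    rw [show T.vec b = l * T.vec a * l⁻¹ by rw [T.conj l hl a ha, hlc, e]]
    simpa using hc.map (MulAut.conj l).toMonoidHom
  have hX : l * g * l⁻¹ ∈ T.X0 :=
    T.mem_X0.2 ⟨key 1 1 (by norm_num) w1 h1, key 2 2 (by norm_num) w2 h2, key n 4 (units0_mem hn).1 w4 h⟩
  have := L.mul_mem (L.mul_mem (L.inv_mem hl) (T.X0_le hX)) hl
  rwa [show l⁻¹ * (l * g * l⁻¹) * l = g by group] at this

/-- Fusion into `V` is controlled by `L`. -/
theorem fusion [Finite M] {D : Subgroup M} (hVD : V ≤ D) {y g : M} (hy : y ∈ V) (hg : g ∈ D)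
    (hgy : g * y * g⁻¹ ∈ V) (hcent : ∀ h ∈ D, Commute h y → h ∈ L ∧ Commute h (T.vec 1)) : g ∈ L := by
  obtain ⟨S, hS⟩ : ∃ S, V.map (MulAut.conj g⁻¹).toMonoidHom = S := ⟨_, rfl⟩
  have hmem : ∀ x ∈ S, x ∈ L ∧ Commute x (T.vec 1) := by
    intro x hx
    rw [← hS] at hx
    obtain ⟨v, hv, rfl⟩ := hx
    refine hcent _ ?_ ?_
    · simpa using D.mul_mem (D.mul_mem (D.inv_mem hg) (hVD hv)) hg
    · have := (T.comm hv hgy).map (MulAut.conj g⁻¹).toMonoidHom
      simpa [mul_assoc] using this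
  have heq := T.elem_unique (fun x hx => (hmem x hx).1) (hS ▸ T.elem_V.map g⁻¹) (fun x hx => (hmem x hx).2)
    (by rw [← hS, card_map_of_injective (MulAut.conj g⁻¹).injective, T.card_V])
  have := T.norm g⁻¹ fun x hx => by
    rw [← heq, ← hS]
    exact ⟨x, hx, rfl⟩
  simpa using L.inv_mem this

/-- If `y` is carried by `g` to a transvection, the conjugates of the vectors fixed by it meet `V` in at least
32 vectors. -/
theorem trans_vectors [Finite M] {D : Subgroup M} (hVD : V ≤ D) {y g : M} (hg : g ∈ D)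
    (hj : g * y * g⁻¹ ∈ L) (hT : isT (T.code (g * y * g⁻¹)) = true)
    (hcent : ∀ h ∈ D, Commute h y → h ∈ L ∧ Commute h (T.vec 1)) :
    ∃ I : Finset ℕ, (∀ u ∈ I, u < 256) ∧ (∀ a ∈ I, ∀ b ∈ I, a ^^^ b ∈ I) ∧ 32 ≤ I.card ∧
      (∀ u ∈ I, Commute (T.vec u) y) ∧
      (∀ u ∈ I, ∀ x ∈ V, Commute (g⁻¹ * x * g) (T.vec u)) ∧
      (∀ u < 256, app (T.code (g * y * g⁻¹)) u = u → g * T.vec u * g⁻¹ = T.vec u → u ∈ I) := by
  classical
  obtain ⟨j, hje⟩ : ∃ j, g * y * g⁻¹ = j := ⟨_, rfl⟩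
  rw [hje] at hj hT ⊢
  obtain ⟨F, hF⟩ : ∃ F, V ⊓ centralizer {j} = F := ⟨_, rfl⟩
  obtain ⟨S, hS⟩ : ∃ S, F.map (MulAut.conj g⁻¹).toMonoidHom = S := ⟨_, rfl⟩
  have hFV : F ≤ V := hF ▸ inf_le_left
  have memF : ∀ u ∈ fixList (T.code j), T.vec u ∈ F := fun u hu => hF ▸
    ⟨T.vec_mem u (fixList_iff.1 hu).1,
      mem_centralizer_singleton_iff.2 ((T.commute_vec hj (fixList_iff.1 hu).1).2 (fixList_iff.1 hu).2).symm.eq⟩
  have hcardF : 64 ≤ Nat.card F := by
    have hlen : (fixList (T.code j)).length = 64 := by simpa [isT, Nat.beq_eq] using hT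
    have hnd : (fixList (T.code j)).Nodup := List.nodup_range.filter _
    let f : (fixList (T.code j)).toFinset → F := fun u => ⟨T.vec u, memF _ (List.mem_toFinset.1 u.2)⟩
    have hf : Function.Injective f := fun u v e => Subtype.ext
      (T.vec_inj (fixList_iff.1 (List.mem_toFinset.1 u.2)).1 (fixList_iff.1 (List.mem_toFinset.1 v.2)).1
        (congrArg Subtype.val e))
    have := Nat.card_le_card_of_injective f hf
    rwa [Nat.card_eq_finsetCard, List.toFinset_card_of_nodup hnd, hlen] at this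
  have hSmem : ∀ x ∈ S, x ∈ L ∧ Commute x (T.vec 1) ∧ Commute x y := by
    intro x hx
    rw [← hS] at hx
    obtain ⟨v, hv, rfl⟩ := hx
    have hc : Commute ((MulAut.conj g⁻¹).toMonoidHom v) y := by
      have := (show Commute v j from mem_centralizer_singleton_iff.1 (hF.ge hv).2).map (MulAut.conj g⁻¹).toMonoidHom
      rw [← hje] at this
      simpa [mul_assoc] using this
    have := hcent _ (by simpa using D.mul_mem (D.mul_mem (D.inv_mem hg) (hVD (hFV hv))) hg) hc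
    exact ⟨this.1, this.2, hc⟩
  have hSe : Elem S := by
    rw [← hS]; exact Elem.map (fun x hx => T.sq (hFV hx)) g⁻¹
  have hScard : 64 ≤ Nat.card S := by
    rwa [← hS, card_map_of_injective (MulAut.conj g⁻¹).injective]
  refine ⟨(Finset.range 256).filter fun u => T.vec u ∈ S, fun u hu => by simpa using (Finset.mem_filter.1 hu).1,
    fun a ha b hb => ?_, ?_, fun u hu => (hSmem _ (Finset.mem_filter.1 hu).2).2.2, fun u hu x hx => ?_,
    fun u hu hfu hgu => ?_⟩
  · simp only [Finset.mem_filter, Finset.mem_range] at ha hb ⊢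
    exact ⟨Nat.xor_lt_two_pow (n := 8) ha.1 hb.1, by rw [T.vec_xor a ha.1 b hb.1]; exact S.mul_mem ha.2 hb.2⟩
  · obtain ⟨Cs, hlen, hcs⟩ : ∃ Cs : List ℕ, Cs.length ≤ 2 ∧ ∀ x ∈ S, T.code x ∈ Cs := by
      by_cases hSV : S ≤ V
      · exact ⟨[idm], by simp, fun x hx => by simp [T.code_vec (hSV hx)]⟩
      · obtain ⟨s, -, -, -, -, -, hall, -⟩ :=
          T.elem_big (fun x hx => (hSmem x hx).1) hSe (fun x hx => (hSmem x hx).2.1) hSV hScard
        exact ⟨[idm, T.code s], by simp, fun x hx => by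
          rcases hall x hx with e | e
          · simp [T.code_vec e]
          · simp [e]⟩
    have hb := T.card_elem_le (fun x hx => (hSmem x hx).1) hcs
      (F := (((Finset.range 256).filter fun u => T.vec u ∈ S)).toList)
      (fun u hu hmem => Finset.mem_toList.2 (Finset.mem_filter.2 ⟨Finset.mem_range.2 hu, hmem⟩))
    rw [Finset.length_toList] at hb
    have := Nat.mul_le_mul_left ((Finset.range 256).filter fun u => T.vec u ∈ S).card hlen
    omega
  · obtain ⟨v, hv, e⟩ := (hS.ge (Finset.mem_filter.1 hu).2)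
    rw [← e]
    simpa using (T.comm hx (hFV hv)).map (MulAut.conj g⁻¹).toMonoidHom
  · refine Finset.mem_filter.2 ⟨Finset.mem_range.2 hu, hS ▸ ⟨T.vec u, memF u (fixList_iff.2 ⟨hu, hfu⟩), ?_⟩⟩
    show g⁻¹ * T.vec u * g⁻¹⁻¹ = T.vec u
    conv_lhs => rw [← hgu]
    group

/-- The centraliser of `1` and `2`. -/
def CL : Subgroup M := centralizer {T.vec 1, T.vec 2}

theorem mem_CL {g : M} : g ∈ T.CL ↔ Commute g (T.vec 1) ∧ Commute g (T.vec 2) := by
  simp only [CL, mem_centralizer_iff, Set.mem_insert_iff, Set.mem_singleton_iff, forall_eq_or_imp,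
    forall_eq, commute_iff_eq]
  exact ⟨fun ⟨a, b⟩ => ⟨a.symm, b.symm⟩, fun ⟨a, b⟩ => ⟨a.symm, b.symm⟩⟩

theorem V_le_CL : V ≤ T.CL := fun x hx =>
  T.mem_CL.2 ⟨T.comm hx (T.vec_mem _ (by norm_num)), T.comm hx (T.vec_mem _ (by norm_num))⟩

theorem app_high {l : M} (hl : l ∈ L) (hlD : l ∈ T.CL) {w : ℕ} (hw : w < 256) (h4 : w % 4 = 0) :
    app (T.code l) w % 4 = 0 := by
  have e1 := (T.commute_vec hl (show 1 < 256 by norm_num)).1 (T.mem_CL.1 hlD).1
  have e2 := (T.commute_vec hl (show 2 < 256 by norm_num)).1 (T.mem_CL.1 hlD).2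
  obtain ⟨f1, f2⟩ := (mul4_iff w hw).2 h4
  refine (mul4_iff _ (app_lt _ _)).1 ⟨?_, ?_⟩
  · have := iso_fv (T.good l hl).2.2 hw (show 1 < 256 by norm_num)
    rw [e1, f1] at this; exact this
  · have := iso_fv (T.good l hl).2.2 hw (show 2 < 256 by norm_num)
    rw [e2, f2] at this; exact this

/-- An element of `CL` carrying a vector of `units0` into `L` lies in `L`. -/
theorem rigid_units [Finite M] {n : ℕ} (hn : n ∈ units0) {g : M} (hg : g ∈ T.CL)
    (hj : g * T.vec n * g⁻¹ ∈ L) : g ∈ L := by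
  obtain ⟨hn256, -⟩ := units0_mem hn
  have hcent : ∀ h ∈ T.CL, Commute h (T.vec n) → h ∈ L ∧ Commute h (T.vec 1) := fun h hh hc =>
    ⟨T.cent_three hn (T.mem_CL.1 hh).1 (T.mem_CL.1 hh).2 hc, (T.mem_CL.1 hh).1⟩
  by_cases hjV : g * T.vec n * g⁻¹ ∈ V
  · exact T.fusion T.V_le_CL (T.vec_mem n hn256) hg hjV hcent
  obtain ⟨j, hje⟩ : ∃ j, g * T.vec n * g⁻¹ = j := ⟨_, rfl⟩
  rw [hje] at hj hjV
  have hjD : j ∈ T.CL := hje ▸ T.CL.mul_mem (T.CL.mul_mem hg (T.V_le_CL (T.vec_mem n hn256))) (T.CL.inv_mem hg)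
  have e1 := (T.commute_vec hj (show 1 < 256 by norm_num)).1 (T.mem_CL.1 hjD).1
  have e2 := (T.commute_vec hj (show 2 < 256 by norm_num)).1 (T.mem_CL.1 hjD).2
  have hj2 : j * j = 1 := by rw [← hje, conj_mul, T.vec_sq hn256]; group
  have hT := inv12_T (T.good j hj) (T.code_sq hj hj2) (T.code_ne hj hjV) e1 e2
  obtain ⟨I, hI256, hIx, hIc, -, hIcomm, hIin⟩ :=
    T.trans_vectors T.V_le_CL hg (hje.symm ▸ hj) (hje.symm ▸ hT) hcent
  rw [hje] at hIin
  have h1I : 1 ∈ I := hIin 1 (by norm_num) e1 (mul_inv_eq_iff_eq_mul.2 (T.mem_CL.1 hg).1)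
  have h2I : 2 ∈ I := hIin 2 (by norm_num) e2 (mul_inv_eq_iff_eq_mul.2 (T.mem_CL.1 hg).2)
  have hlow : ∀ u ∈ I, u % 4 ∈ I := fun u _ => by
    have h4 := Nat.mod_lt u (show 4 > 0 by norm_num)
    have h0 : 0 ∈ I := by simpa using hIx 1 h1I 1 h1I
    rcases (show u % 4 = 0 ∨ u % 4 = 1 ∨ u % 4 = 2 ∨ u % 4 = 3 by omega) with e | e | e | e <;> rw [e]
    exacts [h0, h1I, h2I, by simpa using hIx 1 h1I 2 h2I]
  obtain ⟨n', hn', hq⟩ := exists_one_six sing_high (I := I.filter fun u => u % 4 = 0)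
    (fun u hu => List.mem_map.2 ⟨u / 4, List.mem_range.2 (by have := hI256 u (Finset.mem_filter.1 hu).1; omega),
      by have := (Finset.mem_filter.1 hu).2; omega⟩)
    (fun a ha b hb => Finset.mem_filter.2 ⟨hIx a (Finset.mem_filter.1 ha).1 b (Finset.mem_filter.1 hb).1, by
      have h : (a ^^^ b) % 2 ^ 2 = (a % 2 ^ 2) ^^^ (b % 2 ^ 2) := Nat.xor_mod_two_pow
      simpa [(Finset.mem_filter.1 ha).2, (Finset.mem_filter.1 hb).2] using h⟩) (by
    have hb := Finset.card_le_mul_card_image (f := fun u => u ^^^ u % 4) I 4 (fun c _ => by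
      refine le_trans (Finset.card_le_card (t := ({0, 1, 2, 3} : Finset ℕ).image fun r => c ^^^ r) ?_)
        (Finset.card_image_le.trans (by decide))
      intro u hu
      refine Finset.mem_image.2 ⟨u % 4, ?_, ?_⟩
      · have := Nat.mod_lt u (show 4 > 0 by norm_num)
        simp only [Finset.mem_insert, Finset.mem_singleton]
        omega
      · rw [← (Finset.mem_filter.1 hu).2, Nat.xor_assoc, Nat.xor_self, Nat.xor_zero])
    have hsub : (I.image fun u => u ^^^ u % 4) ⊆ I.filter fun u => u % 4 = 0 := fun v hv => by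
      obtain ⟨u, hu, rfl⟩ := Finset.mem_image.1 hv
      refine Finset.mem_filter.2 ⟨hIx u hu _ (hlow u hu), ?_⟩
      have h : (u ^^^ u % 4) % 2 ^ 2 = (u % 2 ^ 2) ^^^ (u % 4 % 2 ^ 2) := Nat.xor_mod_two_pow
      simpa using h
    have := Finset.card_le_card hsub
    omega)
  rw [Finset.mem_filter] at hn'
  have hnu := mem_units0 (hI256 n' hn'.1) hq hn'.2
  obtain ⟨S, hS⟩ : ∃ S, V.map (MulAut.conj g⁻¹).toMonoidHom = S := ⟨_, rfl⟩
  have hmem : ∀ x ∈ S, x ∈ L ∧ Commute x (T.vec 1) := by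
    intro x hx
    rw [← hS] at hx
    obtain ⟨v, hv, rfl⟩ := hx
    have hD : (MulAut.conj g⁻¹).toMonoidHom v ∈ T.CL := by
      simpa using T.CL.mul_mem (T.CL.mul_mem (T.CL.inv_mem hg) (T.V_le_CL hv)) hg
    refine ⟨T.cent_three hnu (T.mem_CL.1 hD).1 (T.mem_CL.1 hD).2 ?_, (T.mem_CL.1 hD).1⟩
    simpa using hIcomm n' hn'.1 v hv
  have heq := T.elem_unique (fun x hx => (hmem x hx).1) (hS ▸ T.elem_V.map g⁻¹) (fun x hx => (hmem x hx).2)
    (by rw [← hS, card_map_of_injective (MulAut.conj g⁻¹).injective, T.card_V])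
  have := T.norm g⁻¹ fun x hx => by
    rw [← heq, ← hS]
    exact ⟨x, hx, rfl⟩
  simpa using L.inv_mem this

/-- The centraliser of a line lies in `L`. -/
theorem CL_le [Finite M] : T.CL ≤ L := by
  classical
  obtain ⟨D, hD⟩ : ∃ D, T.CL = D := ⟨_, rfl⟩
  rw [hD]
  have hVD : V ≤ D := hD ▸ T.V_le_CL
  obtain ⟨Λ, hΛ⟩ : ∃ Λ, Subgroup.closure {T.vec 1, T.vec 2} = Λ := ⟨_, rfl⟩
  have hΛV : Λ ≤ V := hΛ ▸ (Subgroup.closure_le _).2 (by
    rintro _ (rfl | rfl) <;> exact T.vec_mem _ (by norm_num))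
  have hΛmem : ∀ x ∈ Λ, ∃ c < 4, x = T.vec c := by
    intro x hx
    rw [← hΛ] at hx
    induction hx using Subgroup.closure_induction with
    | mem x hx =>
      rcases hx with rfl | rfl
      exacts [⟨1, by norm_num, rfl⟩, ⟨2, by norm_num, rfl⟩]
    | one => exact ⟨0, by norm_num, T.vec_zero.symm⟩
    | mul x y _ _ hx hy =>
      obtain ⟨a, ha, rfl⟩ := hx
      obtain ⟨b, hb, rfl⟩ := hy
      exact ⟨a ^^^ b, Nat.xor_lt_two_pow (n := 2) ha hb, (T.vec_xor a (by omega) b (by omega)).symm⟩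
    | inv x _ hx =>
      obtain ⟨a, ha, rfl⟩ := hx
      exact ⟨a, ha, T.vec_inv (by omega)⟩
  have hcentral : ∀ g ∈ D, ∀ x ∈ Λ, g * x * g⁻¹ = x := by
    intro g hg x hx
    obtain ⟨h1, h2⟩ := T.mem_CL.1 (hD.symm ▸ hg)
    obtain ⟨c, hc, rfl⟩ := hΛmem x hx
    refine mul_inv_eq_iff_eq_mul.2 ?_
    rcases (show c = 0 ∨ c = 1 ∨ c = 2 ∨ c = 3 by omega) with rfl | rfl | rfl | rfl
    · rw [T.vec_zero, mul_one, one_mul]
    · exact h1
    · exact h2
    · rw [show (3 : ℕ) = 1 ^^^ 2 by decide, T.vec_xor 1 (by norm_num) 2 (by norm_num)]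
      exact h1.mul_right h2
  have : (Λ.subgroupOf D).Normal := ⟨fun x hx g => by
    rw [mem_subgroupOf] at hx ⊢
    rw [coe_mul, coe_mul, coe_inv, hcentral _ g.2 _ hx]
    exact hx⟩
  obtain ⟨π, hπs, hπ⟩ : ∃ π : D →* D ⧸ Λ.subgroupOf D, Function.Surjective π ∧
      ∀ a b : D, π a = π b ↔ (a : M)⁻¹ * b ∈ Λ :=
    ⟨QuotientGroup.mk' _, QuotientGroup.mk'_surjective _, fun a b => by
      rw [QuotientGroup.mk'_apply, QuotientGroup.mk'_apply, QuotientGroup.eq, mem_subgroupOf]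
      rfl⟩
  have hLmem : ∀ a : D, π a ∈ (L.subgroupOf D).map π → (a : M) ∈ L := by
    rintro a ⟨b, hb, e⟩
    simpa using L.mul_mem (mem_subgroupOf.1 hb) (T.le (hΛV ((hπ b a).1 e)))
  have hVmem : ∀ a : D, π a ∈ (V.subgroupOf D).map π → (a : M) ∈ V := by
    rintro a ⟨b, hb, e⟩
    simpa using V.mul_mem (mem_subgroupOf.1 hb) (hΛV ((hπ b a).1 e))
  let vD : ∀ w, w < 256 → D := fun w hw => ⟨T.vec w, hVD (T.vec_mem w hw)⟩
  -- vectors modulo the line
  have vD_eq : ∀ a b (ha : a < 256) (hb : b < 256), π (vD a ha) = π (vD b hb) → a ^^^ b < 4 := by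
    intro a b ha hb e
    have h := (hπ _ _).1 e
    simp only [vD] at h
    rw [T.vec_inv ha, ← T.vec_xor a ha b hb] at h
    obtain ⟨c, hc, e'⟩ := hΛmem _ h
    rw [T.vec_inj (Nat.xor_lt_two_pow (n := 8) ha hb) (by omega) e']
    exact hc
  have vD_low : ∀ w (hw : w < 256), ∃ k, ∃ hk : 4 * k < 256, π (vD w hw) = π (vD (4 * k) hk) := by
    intro w hw
    refine ⟨w / 4, by omega, (hπ _ _).2 ?_⟩
    show (T.vec w)⁻¹ * T.vec (4 * (w / 4)) ∈ Λ
    rw [T.vec_inv hw, ← T.vec_xor w hw _ (by omega)]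
    have h : w ^^^ 4 * (w / 4) < 4 := by
      have e : (w ^^^ 4 * (w / 4)) / 2 ^ 2 = 0 := by
        rw [Nat.xor_div_two_pow, show 4 * (w / 4) / 2 ^ 2 = w / 2 ^ 2 by omega, Nat.xor_self]
      omega
    have h1 : T.vec 1 ∈ Λ := hΛ ▸ Subgroup.subset_closure (Set.mem_insert _ _)
    have h2 : T.vec 2 ∈ Λ := hΛ ▸ Subgroup.subset_closure (Set.mem_insert_of_mem _ rfl)
    rcases (show w ^^^ 4 * (w / 4) = 0 ∨ w ^^^ 4 * (w / 4) = 1 ∨ w ^^^ 4 * (w / 4) = 2 ∨
      w ^^^ 4 * (w / 4) = 3 by omega) with e | e | e | e <;> rw [e]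
    · rw [T.vec_zero]; exact Λ.one_mem
    · exact h1
    · exact h2
    · rw [show (3 : ℕ) = 1 ^^^ 2 by decide, T.vec_xor 1 (by norm_num) 2 (by norm_num)]
      exact Λ.mul_mem h1 h2
  have vD_mul : ∀ a b (ha : a < 256) (hb : b < 256),
      vD a ha * vD b hb = vD (a ^^^ b) (Nat.xor_lt_two_pow (n := 8) ha hb) := fun a b ha hb =>
    Subtype.ext (T.vec_xor a ha b hb).symm
  let N : Set (D ⧸ Λ.subgroupOf D) := {x | ∃ n, ∃ hn : n ∈ units0, x = π (vD n (units0_mem hn).1)}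
  have hNrigid : ∀ x ∈ N, Rigid ((L.subgroupOf D).map π) x := by
    rintro _ ⟨n, hn, rfl⟩ g' hg'
    obtain ⟨g, rfl⟩ := hπs g'
    rw [← map_inv, ← map_mul, ← map_mul] at hg'
    have h : (g : M) * T.vec n * (g : M)⁻¹ ∈ L := hLmem _ hg'
    exact ⟨g, mem_subgroupOf.2 (T.rigid_units hn (hD.symm ▸ g.2) h), rfl⟩
  have key := eq_top_of_singular (L := (L.subgroupOf D).map π) (K := (V.subgroupOf D).map π) (N := N)
    (map_mono fun a ha => mem_subgroupOf.2 (T.le (mem_subgroupOf.1 ha)))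
    (by
      rintro _ ⟨l, hl, rfl⟩ _ ⟨k, hk, rfl⟩
      exact ⟨l * k * l⁻¹, mem_subgroupOf.2 (by
        simpa using T.conj_mem (mem_subgroupOf.1 hl) (mem_subgroupOf.1 hk)), by simp⟩)
    (by
      rintro _ ⟨k, hk, rfl⟩
      rw [← map_mul, ← map_one π]
      exact congrArg π (Subtype.ext (by simpa using T.sq (mem_subgroupOf.1 hk))))
    (by
      rintro _ ⟨n, hn, rfl⟩
      exact ⟨_, mem_subgroupOf.2 (T.vec_mem n (units0_mem hn).1), rfl⟩)
    hNrigid
    (by
      rintro _ ⟨l, hl, rfl⟩ _ ⟨n, hn, rfl⟩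
      obtain ⟨hn256, hq, h4, -⟩ := units0_mem hn
      have hlL : (l : M) ∈ L := mem_subgroupOf.1 hl
      refine ⟨app (T.code (l : M)) n, mem_units0 (app_lt _ _) (by rw [(T.good _ hlL).2.2 n hn256]; exact hq)
        (T.app_high hlL (hD.symm ▸ l.2) hn256 h4), ?_⟩
      rw [← map_inv, ← map_mul, ← map_mul]
      exact congrArg π (Subtype.ext (T.conj _ hlL n hn256)))
    (by
      intro U hUV hU hUN
      obtain ⟨u, huU, hu1⟩ := (Subgroup.bot_or_exists_ne_one U).resolve_left hU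
      obtain ⟨a, ha, rfl⟩ := hUV huU
      obtain ⟨w, hw, hwa⟩ := T.vec_surj _ (mem_subgroupOf.1 ha)
      obtain ⟨k, hk, hwk⟩ := vD_low w hw
      rw [show a = vD w hw from Subtype.ext hwa.symm, hwk] at huU hu1
      have hk0 : k ≠ 0 := by
        rintro rfl
        exact hu1 (by rw [show vD (4 * 0) hk = 1 from Subtype.ext T.vec_zero, map_one])
      have hsing : ∀ m (hm : 4 * m < 256), π (vD (4 * m) hm) ∈ U → qv 255 (4 * m) = false := by
        intro m hm hmU
        by_contra hq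
        exact hUN _ hmU ⟨4 * m, mem_units0 hm (by simpa using hq) (by omega), rfl⟩
      obtain ⟨x, hx, y, hy, hxk, hyk⟩ := sep0 (show k < 64 by omega) hk0
      refine ⟨_, ⟨x, hx, rfl⟩, _, ⟨y, hy, rfl⟩, ?_⟩
      rintro _ ⟨l, hl, rfl⟩ hlU hmem
      have hlL : (l : M) ∈ L := mem_subgroupOf.1 hl
      obtain ⟨hx256, -, hx4, -⟩ := units0_mem hx
      obtain ⟨hy256, -, hy4, -⟩ := units0_mem hy
      obtain ⟨c, hc⟩ : ∃ c, T.code (l : M) = c := ⟨_, rfl⟩
      -- `l` fixes the vector of `U`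
      have hfix : app c (4 * k) = 4 * k := by
        have hcm : π (l * vD (4 * k) hk * l⁻¹) = π (vD (4 * k) hk) := by
          have := (mem_centralizer_iff.1 hlU _ huU)
          rw [map_mul, map_mul, map_inv, ← this, mul_inv_cancel_right]
        rw [show l * vD (4 * k) hk * l⁻¹ = vD (app c (4 * k)) (app_lt _ _) from Subtype.ext (by
          rw [← hc]; exact T.conj _ hlL _ hk)] at hcm
        have h := vD_eq _ _ (app_lt _ _) hk hcm
        have h4 := T.app_high hlL (hD.symm ▸ l.2) hk (by omega)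
        rw [hc] at h4
        have h0 : (app c (4 * k) ^^^ 4 * k) % 2 ^ 2 = 0 := by
          rw [Nat.xor_mod_two_pow, show app c (4 * k) % 2 ^ 2 = 0 from h4, show 4 * k % 2 ^ 2 = 0 by omega]; rfl
        exact Nat.xor_eq_zero_iff.1 (by omega)
      have hcx : app c x < 256 := app_lt _ _
      have hm256 : app c x ^^^ y < 256 := Nat.xor_lt_two_pow (n := 8) hcx hy256
      have hm4 : (app c x ^^^ y) % 4 = 0 := by
        have h4 := T.app_high hlL (hD.symm ▸ l.2) hx256 hx4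
        rw [hc] at h4
        have h : (app c x ^^^ y) % 2 ^ 2 = (app c x % 2 ^ 2) ^^^ (y % 2 ^ 2) := Nat.xor_mod_two_pow
        simpa [h4, hy4] using h
      obtain ⟨m, hm⟩ : 4 ∣ app c x ^^^ y := Nat.dvd_of_mod_eq_zero hm4
      have hmU : π (vD (4 * m) (hm ▸ hm256)) ∈ U := by
        have e : π l * π (vD x hx256) * (π l)⁻¹ * (π (vD y hy256))⁻¹ = π (vD (4 * m) (hm ▸ hm256)) := by
          rw [← map_inv, ← map_inv, ← map_mul, ← map_mul, ← map_mul]
          refine congrArg π (Subtype.ext ?_)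
          show (l : M) * T.vec x * (l : M)⁻¹ * (T.vec y)⁻¹ = T.vec (4 * m)
          rw [T.conj _ hlL x hx256, T.vec_inv hy256, hc, ← T.vec_xor _ hcx y hy256, hm]
        exact e ▸ hmem
      have hmk : π (vD (4 * m ^^^ 4 * k) (Nat.xor_lt_two_pow (n := 8) (hm ▸ hm256) hk)) ∈ U := by
        rw [← vD_mul _ _ (hm ▸ hm256) hk, map_mul]
        exact U.mul_mem hmU huU
      have hmk' : 4 * m ^^^ 4 * k = 4 * (m ^^^ k) := by
        have := Nat.shiftLeft_xor_distrib (a := m) (b := k) (i := 2)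
        simpa [Nat.shiftLeft_eq, Nat.mul_comm] using this.symm
      have q3 : qv 255 (4 * m ^^^ 4 * k) = false := by
        have hlt : 4 * (m ^^^ k) < 256 := hmk' ▸ Nat.xor_lt_two_pow (n := 8) (hm ▸ hm256) hk
        have : π (vD (4 * (m ^^^ k)) hlt) ∈ U := by
          simp only [← hmk']; exact hmk
        rw [hmk']; exact hsing _ hlt this
      have hfv := qv_xor255 (hsing m (hm ▸ hm256) hmU) (hsing k hk huU) q3
      have e1 : fv (app c x) (4 * k) = fv x (4 * k) := by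
        conv_lhs => rw [← hfix, ← hc]
        exact iso_fv (T.good _ hlL).2.2 hx256 hk
      rw [← hm, fv_xor, e1, hxk, hyk] at hfv
      simp at hfv)
    (by
      rintro _ ⟨j, hj, rfl⟩ hj2 hjV
      have hjL : (j : M) ∈ L := mem_subgroupOf.1 hj
      have hjV' : (j : M) ∉ V := fun h => hjV ⟨j, mem_subgroupOf.2 h, rfl⟩
      have hjj : (j : M) * j ∈ V := by
        rw [← map_mul, ← map_one π] at hj2
        have h := hΛV ((hπ _ _).1 hj2.symm)
        simpa using h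
      have c2 : ⊚ (T.code (j : M)) (T.code (j : M)) = idm := by
        rw [← T.code_mul _ hjL _ hjL, T.code_vec hjj]
      have e1 := (T.commute_vec hjL (show 1 < 256 by norm_num)).1 (T.mem_CL.1 (hD.symm ▸ j.2)).1
      have e2 := (T.commute_vec hjL (show 2 < 256 by norm_num)).1 (T.mem_CL.1 (hD.symm ▸ j.2)).2
      obtain ⟨n, hn, hfix⟩ := inv12 (T.good _ hjL) c2 (T.code_ne hjL hjV') e1 e2
      refine ⟨π (vD n (units0_mem hn).1), ⟨_, mem_subgroupOf.2 (T.le (T.vec_mem n (units0_mem hn).1)), rfl⟩,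
        hNrigid _ ⟨n, hn, rfl⟩, ?_⟩
      exact (show Commute (vD n (units0_mem hn).1) j from Subtype.ext
        ((T.commute_vec hjL (units0_mem hn).1).2 hfix).symm.eq).map π)
    (x := π (vD 4 (by norm_num))) ⟨4, by decide +kernel, rfl⟩
    (s := π (vD 20 (by norm_num))) ⟨_, mem_subgroupOf.2 (T.vec_mem 20 (by norm_num)), rfl⟩
    (fun e => by
      rw [← map_one π, ← show vD 0 (by norm_num) = 1 from Subtype.ext T.vec_zero] at e
      exact absurd (vD_eq 20 0 (by norm_num) (by norm_num) e) (by decide))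
    (by
      rintro ⟨n, hn, e⟩
      have h := vD_eq 20 n (by norm_num) (units0_mem hn).1 e
      have h0 : (20 ^^^ n) % 2 ^ 2 = 0 := by
        rw [Nat.xor_mod_two_pow, show n % 2 ^ 2 = 0 from (units0_mem hn).2.2.1]; rfl
      have h20 : 20 = n := Nat.xor_eq_zero_iff.1 (by omega)
      have := (units0_mem hn).2.1
      rw [← h20, twenty.1] at this
      simp at this)
  intro g hg
  exact hLmem ⟨g, hg⟩ (key ▸ mem_top _)

end Tw

end Cfsg.Agent.U62Three.C
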