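import Cfsg.Agent.U62Three.C.Elem
import Cfsg.Agent.U62Three.C.Code.NormCheck

/-!
# `L` is the normaliser of `V`

The index is at most a product of orbit lengths, prime to the primes above five, and congruent to one modulo 81
as a Sylow 3-subgroup of `L` is semiregular on the other cosets.
-/

set_option autoImplicit false
set_option linter.unusedSectionVars false
set_option maxRecDepth 20000

open Subgroup

namespace Cfsg.Agent.U62Three.C

open U62Rec K.Code Code TwoClassClosed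

local notation "⊚" => U62Rec.cmp

universe u

variable {M : Type u} [Group M]

/-- Orbit and stabiliser for conjugation. -/
theorem card_eq_conj_orbit [Finite M] (H : Subgroup M) (x : M) :
    Nat.card H = Nat.card (Set.range fun g : H => (g : M) * x * (g : M)⁻¹) *
      Nat.card (H ⊓ centralizer {x} : Subgroup M) := by
  let : MulAction H M := MulAction.compHom M (MulAut.conj.comp H.subtype)
  have e : Nat.card (MulAction.stabilizer H x) = Nat.card (H ⊓ centralizer {x} : Subgroup M) := by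
    refine Nat.card_congr ?_
    refine
      { toFun := fun g => ⟨g.1.1, g.1.2, mem_centralizer_singleton_iff.2 (mul_inv_eq_iff_eq_mul.1 g.2)⟩
        invFun := fun g => ⟨⟨g.1, g.2.1⟩,
          mul_inv_eq_iff_eq_mul.2 (mem_centralizer_singleton_iff.1 g.2.2)⟩
        left_inv := fun g => rfl
        right_inv := fun g => rfl }
  rw [← e]
  exact (Nat.card_congr (MulAction.orbitProdStabilizerEquivGroup H x)).symm.trans (Nat.card_prod _ _)

theorem bit_step : ∀ v < 256, v = 0 ∨ ∃ k : Fin 8, v ^^^ 2 ^ (k : ℕ) < v := by decide +kernel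

theorem nodup_rest (w : ℕ) : (restList w).Nodup := List.nodup_range.filter _

theorem nodup_pair : pairList.Nodup := List.nodup_range.filter _

theorem nodup_units : unitList.Nodup := List.nodup_range.filter _

theorem nodup_units0 : units0.Nodup := List.nodup_range.filter _

/-- The additive maps keeping the form and fixing `1`, `2`, `4`. -/
def Iso124 (φ : Fin 256 → Fin 256) : Prop :=
  (∀ a b c : Fin 256, (c : ℕ) = (a : ℕ) ^^^ b → (φ c : ℕ) = (φ a : ℕ) ^^^ φ b) ∧
    (∀ a : Fin 256, qv 255 (φ a) = qv 255 a) ∧ φ 1 = 1 ∧ φ 2 = 2 ∧ φ 4 = 4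

theorem Iso124.fv_eq {φ : Fin 256 → Fin 256} (h : Iso124 φ) (a b : Fin 256) : fv (φ a) (φ b) = fv a b := by
  have hc : (a : ℕ) ^^^ b < 256 := Nat.xor_lt_two_pow (n := 8) a.2 b.2
  have e := h.2.1 ⟨_, hc⟩
  rw [h.1 a b ⟨_, hc⟩ rfl, qv_xor, h.2.1, h.2.1] at e
  simp only [qv_xor] at e
  revert e
  cases qv 255 a <;> cases qv 255 b <;> cases fv (φ a : ℕ) (φ b) <;> cases fv (a : ℕ) b <;> simp

theorem Iso124.pair {φ : Fin 256 → Fin 256} (h : Iso124 φ) {w : Fin 256} (hw : (w : ℕ) ∈ pairList) :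
    (φ w : ℕ) ∈ pairList := by
  simp only [pairList, List.mem_filter, List.mem_range, Bool.and_eq_true, Bool.not_eq_eq_eq_not,
    Bool.not_true] at hw ⊢
  refine ⟨(φ w).2, ⟨⟨by rw [h.2.1]; exact hw.2.1.1.1, ?_⟩, ?_⟩, ?_⟩
  · have := h.fv_eq w 1; rw [h.2.2.1] at this; exact this.trans hw.2.1.1.2
  · have := h.fv_eq w 2; rw [h.2.2.2.1] at this; exact this.trans hw.2.1.2
  · have := h.fv_eq w 4; rw [h.2.2.2.2] at this; exact this.trans hw.2.2

theorem Iso124.rest {φ : Fin 256 → Fin 256} (h : Iso124 φ) {w v : Fin 256}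
    (hv : (v : ℕ) ∈ restList w) : (φ v : ℕ) ∈ restList (φ w) := by
  simp only [restList, List.mem_filter, List.mem_range, Bool.and_eq_true, Bool.not_eq_eq_eq_not,
    Bool.not_true] at hv ⊢
  refine ⟨(φ v).2, ⟨⟨⟨by rw [h.2.1]; exact hv.2.1.1.1.1, ?_⟩, ?_⟩, ?_⟩, ?_⟩
  · have := h.fv_eq v 1; rw [h.2.2.1] at this; exact this.trans hv.2.1.1.1.2
  · have := h.fv_eq v 2; rw [h.2.2.2.1] at this; exact this.trans hv.2.1.1.2
  · have := h.fv_eq v 4; rw [h.2.2.2.2] at this; exact this.trans hv.2.1.2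
  · exact (h.fv_eq v w).trans hv.2.2

theorem Iso124.zero {φ : Fin 256 → Fin 256} (h : Iso124 φ) : φ 0 = 0 := by
  have := h.1 0 0 0 (by simp)
  rw [Nat.xor_self] at this
  exact Fin.ext this

/-- Two such maps agreeing on a vector of `pairList` and on its rest are equal. -/
theorem Iso124.ext {φ ψ : Fin 256 → Fin 256} (h : Iso124 φ) (h' : Iso124 ψ) {w : Fin 256}
    (hw : (w : ℕ) ∈ pairList) (e : φ w = ψ w)
    (e' : ∀ v : Fin 256, (v : ℕ) ∈ restList w → φ v = ψ v) : φ = ψ := by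
  have good : ∀ l : List ℕ, (∀ x ∈ l, ∃ hx : x < 256, φ ⟨x, hx⟩ = ψ ⟨x, hx⟩) → ∀ acc : List ℕ,
      (∀ x ∈ acc, ∃ hx : x < 256, φ ⟨x, hx⟩ = ψ ⟨x, hx⟩) →
      ∀ x ∈ l.foldl (fun acc x => acc ++ acc.map fun y => y ^^^ x) acc,
        ∃ hx : x < 256, φ ⟨x, hx⟩ = ψ ⟨x, hx⟩ := by
    intro l
    induction l with
    | nil => intro _ acc hacc; exact hacc
    | cons y l ih =>
      intro hl acc hacc
      refine ih (fun x hx => hl x (List.mem_cons_of_mem _ hx)) _ ?_
      intro x hx
      rcases List.mem_append.1 hx with hx | hx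
      · exact hacc x hx
      · obtain ⟨z, hz, rfl⟩ := List.mem_map.1 hx
        obtain ⟨hzl, hze⟩ := hacc z hz
        obtain ⟨hyl, hye⟩ := hl y List.mem_cons_self
        refine ⟨Nat.xor_lt_two_pow (n := 8) hzl hyl, Fin.ext ?_⟩
        rw [h.1 ⟨z, hzl⟩ ⟨y, hyl⟩ _ rfl, h'.1 ⟨z, hzl⟩ ⟨y, hyl⟩ _ rfl, hze, hye]
  have hbase : ∀ x ∈ 1 :: 2 :: 4 :: (w : ℕ) :: restList w, ∃ hx : x < 256, φ ⟨x, hx⟩ = ψ ⟨x, hx⟩ := by
    intro x hx
    simp only [List.mem_cons] at hx
    rcases hx with rfl | rfl | rfl | rfl | hx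
    · exact ⟨by norm_num, h.2.2.1.trans h'.2.2.1.symm⟩
    · exact ⟨by norm_num, h.2.2.2.1.trans h'.2.2.2.1.symm⟩
    · exact ⟨by norm_num, h.2.2.2.2.trans h'.2.2.2.2.symm⟩
    · exact ⟨w.2, e⟩
    · have hx' : x < 256 := List.mem_range.1 (List.mem_filter.1 hx).1
      exact ⟨hx', e' ⟨x, hx'⟩ hx⟩
  have hs := rest_span
  simp only [List.all_eq_true, List.mem_range, memB_iff] at hs
  have hunit : ∀ k : Fin 8, ∃ hx : 2 ^ (k : ℕ) < 256, φ ⟨_, hx⟩ = ψ ⟨_, hx⟩ := fun k =>
    good _ hbase [0] (fun x hx => by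
      obtain rfl := List.mem_singleton.1 hx
      exact ⟨by norm_num, h.zero.trans h'.zero.symm⟩) _ (hs _ hw k k.2)
  funext ⟨v, hv⟩
  induction v using Nat.strong_induction_on with
  | _ v ih =>
    rcases bit_step v hv with rfl | ⟨k, hk⟩
    · exact (h.zero).trans h'.zero.symm
    · obtain ⟨hk', hke⟩ := hunit k
      have hlt : v ^^^ 2 ^ (k : ℕ) < 256 := Nat.xor_lt_two_pow (n := 8) hv hk'
      have e1 : v = (v ^^^ 2 ^ (k : ℕ)) ^^^ 2 ^ (k : ℕ) := by rw [Nat.xor_assoc, Nat.xor_self, Nat.xor_zero]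
      refine Fin.ext ?_
      rw [h.1 ⟨_, hlt⟩ ⟨_, hk'⟩ ⟨v, hv⟩ e1, h'.1 ⟨_, hlt⟩ ⟨_, hk'⟩ ⟨v, hv⟩ e1, ih _ hk hlt, hke]

namespace Tw

variable {L V : Subgroup M} (T : Tw L V)

include T

theorem centralizer_V [Finite M] {g : M} (hg : ∀ x ∈ V, Commute g x) : g ∈ V := by
  obtain ⟨h0, h1, -, h01, -, -, -, -, -, -, -, -, -, -, -, ⟨hn1, hn2⟩, -⟩ := frame_props
  obtain ⟨a, ha, b, hb, hax, hby, hao, hbo, hab⟩ := T.lift_pair h0 h1 h01
  have hin : ∀ x ∈ centralizer (V : Set M), x ∈ L → x ∈ V := fun x hx hxL =>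
    T.mem_of_commute_all hxL fun c hc => (mem_centralizer_iff.1 hx _ (T.vec_mem c hc)).symm
  have key : ∀ y ∈ L, y ∈ normalizer (centralizer (V : Set M) : Set M) := fun y hy => by
    refine mem_normalizer_iff.2 fun x => ?_
    simp only [mem_centralizer_iff, SetLike.mem_coe]
    constructor <;> intro h v hv
    · have := h _ (by simpa [mul_assoc] using T.conj_mem (L.inv_mem hy) hv)
      have := congrArg (fun z => y * z * y⁻¹) this
      simpa [mul_assoc] using this
    · have := h _ (T.conj_mem hy hv)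
      have := congrArg (fun z => y⁻¹ * z * y) this
      simpa [mul_assoc] using this
  have hle := T.le_of_three ha hao hb hbo hab (by rw [hax, hby]; exact hn1) (by rw [hax, hby]; exact hn2)
    (key a ha) (key b hb) fun x hx hxL hx3 => by
      have := T.sq (hin x hx hxL)
      rwa [this, one_mul] at hx3
  have hgc : g ∈ centralizer (V : Set M) := mem_centralizer_iff.2 fun v hv => (hg v hv).eq.symm
  exact hin g hgc (hle hgc)

theorem mem_NV [Finite M] {g : M} : g ∈ normalizer (V : Set M) ↔ ∀ x ∈ V, g * x * g⁻¹ ∈ V := by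
  refine ⟨fun h x hx => (mem_normalizer_iff.1 h x).1 hx, fun h => mem_normalizer_iff.2 fun x => ⟨h x, fun hx => ?_⟩⟩
  have hle : V.map (MulAut.conj g).toMonoidHom ≤ V := by
    rintro _ ⟨y, hy, rfl⟩; exact h y hy
  obtain ⟨y, hy, e⟩ := (eq_of_le_of_card_ge hle
    (le_of_eq (card_map_of_injective (MulAut.conj g).injective).symm)).symm ▸ hx
  have : y = x := (MulAut.conj g).injective e
  exact this ▸ hy

theorem L_le_NV [Finite M] : L ≤ normalizer (V : Set M) := fun _ hl => T.mem_NV.2 fun _ hx => T.conj_mem hl hx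

/-- The vectors and `V`. -/
noncomputable def vecEquiv : Fin 256 ≃ V :=
  Equiv.ofBijective (fun a : Fin 256 => (⟨T.vec a, T.vec_mem a a.2⟩ : V))
    ⟨fun a b h => Fin.ext (T.vec_inj a.2 b.2 (congrArg Subtype.val h)), fun x => by
      obtain ⟨a, ha, e⟩ := T.vec_surj x x.2
      exact ⟨⟨a, ha⟩, Subtype.ext e⟩⟩

/-- The permutation of the vectors by a normalising element. -/
noncomputable def perm : normalizer (V : Set M) →* Equiv.Perm (Fin 256) :=
  ((T.vecEquiv.symm.permCongrHom.toMonoidHom).comp (MulAut.toPerm V)).comp V.normalizerMonoidHom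

theorem vec_perm (g : normalizer (V : Set M)) (a : Fin 256) :
    T.vec (T.perm g a) = (g : M) * T.vec a * (g : M)⁻¹ := by
  have h : T.vecEquiv (T.perm g a) = V.normalizerMonoidHom g (T.vecEquiv a) := by
    simp [perm, Equiv.permCongrHom, MulAut.toPerm]
    rfl
  exact congrArg Subtype.val h

theorem perm_iso [Finite M] {g : normalizer (V : Set M)} (h1 : Commute (g : M) (T.vec 1))
    (h2 : Commute (g : M) (T.vec 2)) (h4 : Commute (g : M) (T.vec 4)) : Iso124 (T.perm g) := by
  refine ⟨fun a b c e => ?_, fun a => ?_, ?_, ?_, ?_⟩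
  · refine T.vec_inj (T.perm g c).2 (Nat.xor_lt_two_pow (n := 8) (T.perm g a).2 (T.perm g b).2) ?_
    rw [T.vec_xor _ (T.perm g a).2 _ (T.perm g b).2, T.vec_perm, T.vec_perm, T.vec_perm, e,
      T.vec_xor _ a.2 _ b.2]
    group
  · exact T.qv_conj g (T.mem_NV.1 g.2) a a.2 _ (T.perm g a).2 (T.vec_perm g a).symm
  all_goals refine Fin.ext (T.vec_inj (T.perm g _).2 (Fin.is_lt _) ?_); rw [T.vec_perm]
  · exact mul_inv_eq_iff_eq_mul.2 h1
  · exact mul_inv_eq_iff_eq_mul.2 h2
  · exact mul_inv_eq_iff_eq_mul.2 h4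

theorem perm_eq_one [Finite M] {g : normalizer (V : Set M)} (h : T.perm g = 1) : (g : M) ∈ V := by
  refine T.centralizer_V fun x hx => ?_
  obtain ⟨a, ha, rfl⟩ := T.vec_surj x hx
  have := T.vec_perm g ⟨a, ha⟩
  rw [h] at this
  exact mul_inv_eq_iff_eq_mul.1 this.symm

theorem perm_eq_of_code {l : M} (hl : l ∈ L) (hn : l ∈ normalizer (V : Set M)) (a : Fin 256) :
    (T.perm ⟨l, hn⟩ a : ℕ) = app (T.code l) a := by
  refine T.vec_inj (T.perm _ a).2 (app_lt _ _) ?_
  rw [T.vec_perm, ← T.conj l hl a a.2]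

/-- The normaliser of `V` fixing `1`, `2`, `4`. -/
def N124 : Subgroup M := normalizer (V : Set M) ⊓ centralizer {T.vec 1} ⊓ centralizer {T.vec 2} ⊓
  centralizer {T.vec 4}

theorem mem_N124 {g : M} : g ∈ T.N124 ↔ g ∈ normalizer (V : Set M) ∧ Commute g (T.vec 1) ∧
    Commute g (T.vec 2) ∧ Commute g (T.vec 4) := by
  simp only [N124, mem_inf, mem_centralizer_singleton_iff, commute_iff_eq, and_assoc]

theorem card_map_perm [Finite M] (H : Subgroup (normalizer (V : Set M))) (hV : V.subgroupOf _ ≤ H) :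
    Nat.card H = 256 * Nat.card (H.map T.perm) := by
  have hker : T.perm.ker = V.subgroupOf (normalizer (V : Set M)) := by
    ext g
    refine ⟨fun h => mem_subgroupOf.2 (T.perm_eq_one h), fun h => Equiv.ext fun a => ?_⟩
    refine Fin.ext (T.vec_inj (T.perm g a).2 a.2 ?_)
    rw [T.vec_perm, (T.comm (mem_subgroupOf.1 h) (T.vec_mem a a.2)).eq, mul_inv_cancel_right]
    rfl
  have h := card_eq_card_quotient_mul_card_subgroup (T.perm.comp H.subtype).ker
  rw [Nat.card_congr (QuotientGroup.quotientKerEquivRange _).toEquiv, MonoidHom.range_comp,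
    range_subtype, show (T.perm.comp H.subtype).ker = T.perm.ker.subgroupOf H from rfl] at h
  rw [h, mul_comm]
  congr 1
  rw [hker, Nat.card_congr (subgroupOfEquivOfLe hV).toEquiv,
    Nat.card_congr (subgroupOfEquivOfLe le_normalizer).toEquiv, T.card_V]

theorem image_le [Finite M] :
    Nat.card ((T.N124.subgroupOf (normalizer (V : Set M))).map T.perm) ≤ 14400 := by
  classical
  obtain ⟨w₀, hw₀⟩ : ∃ w : Fin 256, (w : ℕ) ∈ pairList := by
    obtain ⟨w, hw⟩ := List.exists_mem_of_length_pos (show 0 < pairList.length by rw [pair_len]; norm_num)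
    exact ⟨⟨w, List.mem_range.1 (List.mem_filter.1 hw).1⟩, hw⟩
  set H := (T.N124.subgroupOf (normalizer (V : Set M))).map T.perm
  have hiso : ∀ φ : H, Iso124 (φ.1 : Fin 256 → Fin 256) := by
    rintro ⟨_, g, hg, rfl⟩
    obtain ⟨-, h1, h2, h4⟩ := T.mem_N124.1 (mem_subgroupOf.1 hg)
    exact T.perm_iso h1 h2 h4
  let f : H → Σ w : {w : ℕ // w ∈ pairList.toFinset}, ((restList w₀).toFinset ↪ (restList w).toFinset) :=
    fun φ => ⟨⟨φ.1 w₀, List.mem_toFinset.2 ((hiso φ).pair hw₀)⟩,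
      ⟨fun v => ⟨φ.1 ⟨v, List.mem_range.1 (List.mem_filter.1 (List.mem_toFinset.1 v.2)).1⟩,
          List.mem_toFinset.2 ((hiso φ).rest (List.mem_toFinset.1 v.2))⟩,
        fun a b e => Subtype.ext (Fin.ext_iff.1 (φ.1.injective (Fin.ext (congrArg Subtype.val e))))⟩⟩
  have hf : Function.Injective f := by
    intro φ ψ e
    refine Subtype.ext (Equiv.ext (congrFun ((hiso φ).ext (hiso ψ) hw₀ ?_ ?_)))
    · exact Fin.ext (congrArg (fun z => z.1.1) e)
    · intro v hv
      have key : ∀ z z' : Σ w : {w : ℕ // w ∈ pairList.toFinset},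
          ((restList w₀).toFinset ↪ (restList w).toFinset), z = z' →
            ∀ u, ((z.2 u : ℕ)) = (z'.2 u : ℕ) := by
        rintro z z' rfl u; rfl
      exact Fin.ext (key _ _ e ⟨(v : ℕ), List.mem_toFinset.2 hv⟩)
  refine (Nat.card_le_card_of_injective f hf).trans ?_
  rw [Nat.card_sigma]
  refine (Finset.sum_le_card_nsmul _ _ 720 fun w _ => ?_).trans ?_
  · have hr := rest_len
    simp only [List.all_eq_true, Nat.beq_eq] at hr
    rw [Nat.card_eq_fintype_card, Fintype.card_embedding_eq, Fintype.card_coe, Fintype.card_coe,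
      List.toFinset_card_of_nodup (nodup_rest _), List.toFinset_card_of_nodup (nodup_rest _),
      hr _ hw₀, hr _ (List.mem_toFinset.1 w.2)]
    decide
  · rw [Finset.card_univ, Fintype.card_coe, List.toFinset_card_of_nodup nodup_pair, pair_len,
      smul_eq_mul]

theorem image_prime [Finite M] {p : ℕ} (hp : p.Prime) (h7 : 7 ≤ p) :
    ¬ p ∣ Nat.card ((T.N124.subgroupOf (normalizer (V : Set M))).map T.perm) := by
  intro hdvd
  classical
  have := Fact.mk hp
  obtain ⟨⟨φ, hφ⟩, ho⟩ := exists_prime_orderOf_dvd_card' p hdvd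
  rw [Subgroup.orderOf_mk] at ho
  obtain ⟨g, hg, hgφ⟩ := hφ
  obtain ⟨-, h1, h2, h4⟩ := T.mem_N124.1 (mem_subgroupOf.1 hg)
  have hiso : Iso124 φ := hgφ ▸ T.perm_iso h1 h2 h4
  -- `φ` fixes a point of each invariant set whose size is not divisible by `p`
  have fixed : ∀ s : Finset (Fin 256), (∀ x, φ x ∈ s ↔ x ∈ s) →
      (s.filter fun x => φ x = x).card % p = s.card % p := by
    intro s hs
    obtain ⟨ψ, hψ⟩ : ∃ ψ, φ.subtypePerm (p := fun x => x ∈ s) hs = ψ := ⟨_, rfl⟩
    have hpow : ψ ^ p ^ 1 = 1 := by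
      rw [pow_one, ← hψ, Equiv.Perm.subtypePerm_pow]
      refine Equiv.ext fun x => Subtype.ext ?_
      show (φ ^ p) x.1 = x.1
      rw [← ho, pow_orderOf_eq_one]
      rfl
    have h := Equiv.Perm.card_compl_support_modEq hpow
    rw [Fintype.card_coe] at h
    refine Eq.trans (congrArg (· % p) ?_) h
    refine Finset.card_bij' (fun x hx => ⟨x, (Finset.mem_filter.1 hx).1⟩) (fun x _ => x.1) ?_ ?_
      (fun _ _ => rfl) (fun _ _ => rfl)
    · intro x hx
      rw [Finset.mem_compl, Equiv.Perm.notMem_support, ← hψ]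
      exact Subtype.ext (Finset.mem_filter.1 hx).2
    · intro x hx
      rw [Finset.mem_compl, Equiv.Perm.notMem_support, ← hψ] at hx
      exact Finset.mem_filter.2 ⟨x.2, Subtype.ext_iff.1 hx⟩
  have inv : ∀ s : Finset (Fin 256), (∀ x ∈ s, φ x ∈ s) → ∀ x, φ x ∈ s ↔ x ∈ s := by
    intro s hs x
    refine ⟨fun h => ?_, hs x⟩
    obtain ⟨⟨y, hy⟩, e⟩ := Finite.surjective_of_injective
      (f := fun y : {y // y ∈ s} => (⟨φ y, hs y y.2⟩ : {y // y ∈ s}))
      (fun a b e => Subtype.ext (φ.injective (Subtype.ext_iff.1 e))) ⟨φ x, h⟩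
    exact φ.injective (Subtype.ext_iff.1 e) ▸ hy
  have hcard : ∀ l : List ℕ, (∀ x ∈ l, x < 256) → l.Nodup →
      (Finset.univ.filter fun x : Fin 256 => (x : ℕ) ∈ l).card = l.length := by
    intro l hl hnd
    rw [← List.toFinset_card_of_nodup hnd]
    refine Finset.card_bij' (fun x _ => (x : ℕ)) (fun x hx => ⟨x, hl x (List.mem_toFinset.1 hx)⟩)
      ?_ ?_ (fun _ _ => rfl) (fun _ _ => rfl)
    · intro x hx; exact List.mem_toFinset.2 (Finset.mem_filter.1 hx).2
    · intro x hx; exact Finset.mem_filter.2 ⟨Finset.mem_univ _, List.mem_toFinset.1 hx⟩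
  have e1 := fixed (Finset.univ.filter fun x : Fin 256 => (x : ℕ) ∈ pairList) (inv _ fun x hx =>
    Finset.mem_filter.2 ⟨Finset.mem_univ _, hiso.pair (Finset.mem_filter.1 hx).2⟩)
  rw [hcard pairList (fun x hx => List.mem_range.1 (List.mem_filter.1 hx).1) (List.nodup_range.filter _),
    pair_len] at e1
  obtain ⟨w, hw⟩ : ((Finset.univ.filter fun x : Fin 256 => (x : ℕ) ∈ pairList).filter
      fun x => φ x = x).Nonempty := by
    rw [← Finset.card_pos]
    refine Nat.pos_of_ne_zero fun h0 => ?_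
    rw [h0, Nat.zero_mod] at e1
    have h20 : p ∣ 2 ^ 2 * 5 := Nat.dvd_of_mod_eq_zero e1.symm
    rcases hp.dvd_mul.1 h20 with h | h
    · have := Nat.le_of_dvd (by norm_num) (hp.dvd_of_dvd_pow h); omega
    · have := Nat.le_of_dvd (by norm_num) h; omega
  rw [Finset.mem_filter, Finset.mem_filter] at hw
  have hr := rest_len
  simp only [List.all_eq_true, Nat.beq_eq] at hr
  have e2 := fixed (Finset.univ.filter fun x : Fin 256 => (x : ℕ) ∈ restList w) (inv _ fun x hx =>
    Finset.mem_filter.2 ⟨Finset.mem_univ _, by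
      have := hiso.rest (Finset.mem_filter.1 hx).2
      rwa [hw.2] at this⟩)
  have hlen := hcard (restList w) (fun x hx => List.mem_range.1 (List.mem_filter.1 hx).1)
    (List.nodup_range.filter _)
  rw [hr _ hw.1.2] at hlen
  rw [hlen, Nat.mod_eq_of_lt (show 6 < p by omega)] at e2
  have hall : ∀ v : Fin 256, (v : ℕ) ∈ restList w → φ v = v := by
    have hle := Finset.card_filter_le (Finset.univ.filter fun x : Fin 256 => (x : ℕ) ∈ restList w)
      (fun x => φ x = x)
    rw [Nat.mod_eq_of_lt (by omega)] at e2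
    have heq := Finset.card_filter_eq_iff.1 (e2.trans hlen.symm)
    exact fun v hv => heq v (Finset.mem_filter.2 ⟨Finset.mem_univ _, hv⟩)
  have h1' : φ = 1 := Equiv.ext (congrFun (hiso.ext (ψ := id) ⟨fun _ _ _ e => e, fun _ => rfl, rfl, rfl, rfl⟩
    hw.1.2 hw.2 hall))
  rw [h1', orderOf_one] at ho
  omega

/-- Whether `v` is reachable from `2` by `L`. -/
theorem cross_reach {u u' : ℕ} (hu : u ∈ crossWords.map Prod.fst) (hu' : u' ∈ crossWords.map Prod.fst) :
    ∃ l ∈ L, Commute l (T.vec 1) ∧ app (T.code l) u = u' ∧ app (T.code l) (u ^^^ 1) = u' ^^^ 1 := by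
  have h := cross_ok
  simp only [List.all_eq_true, Bool.and_eq_true, Nat.beq_eq] at h
  have hlt : ∀ v ∈ crossWords.map Prod.fst, v < 256 := fun v hv => by
    have h' := cross_sets.2.2.2
    simp only [List.all_eq_true, Bool.and_eq_true, memB_iff] at h'
    exact List.mem_range.1 (List.mem_filter.1 (h' v hv).1).1
  have hl256 := hlt u' hu'
  obtain ⟨⟨_, w⟩, hw, rfl⟩ := List.mem_map.1 hu
  obtain ⟨⟨_, w'⟩, hw', rfl⟩ := List.mem_map.1 hu'
  obtain ⟨a, ha, hac⟩ := T.att_word (ev_att w)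
  obtain ⟨b, hb, hbc⟩ := T.att_word (ev_att w')
  have hb1 : app (T.code b⁻¹) 1 = 1 := by
    conv_lhs => rw [← (h _ hw').1]
    rw [← hbc, ← app_cmp, (T.code_inv hb).1, app_idm (by norm_num)]
  have hmain : ∀ v : ℕ, app (T.code (b⁻¹ * a)) v = app (T.code b⁻¹) (app (ev w) v) := fun v => by
    rw [T.code_mul _ (L.inv_mem hb) _ ha, app_cmp, hac]
  refine ⟨b⁻¹ * a, L.mul_mem (L.inv_mem hb) ha, ?_, ?_, ?_⟩
  · refine (T.commute_vec (L.mul_mem (L.inv_mem hb) ha) (by norm_num)).2 ?_
    rw [hmain, (h _ hw).1, hb1]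
  · rw [hmain, (h _ hw).2]
    conv_lhs => rw [← (h _ hw').2]
    rw [← hbc, ← app_cmp, (T.code_inv hb).1, app_idm hl256]
  · rw [hmain, app_xor, (h _ hw).1, (h _ hw).2, app_xor, hb1]
    congr 1
    conv_lhs => rw [← (h _ hw').2]
    rw [← hbc, ← app_cmp, (T.code_inv hb).1, app_idm hl256]

/-- The set of conjugates of a vector under a subgroup. -/
noncomputable def orbSet (H : Subgroup M) (a : ℕ) : Finset ℕ :=
  open scoped Classical in
  (Finset.range 256).filter fun u => ∃ g ∈ H, g * T.vec a * g⁻¹ = T.vec u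

theorem mem_orbSet {H : Subgroup M} {a u : ℕ} :
    u ∈ T.orbSet H a ↔ u < 256 ∧ ∃ g ∈ H, g * T.vec a * g⁻¹ = T.vec u := by
  classical
  simp [orbSet]

theorem card_orbit [Finite M] {H : Subgroup M} (hH : H ≤ normalizer (V : Set M)) {a : ℕ} (ha : a < 256) :
    Nat.card H = (T.orbSet H a).card * Nat.card (H ⊓ centralizer {T.vec a} : Subgroup M) := by
  rw [card_eq_conj_orbit H (T.vec a)]
  congr 1
  classical
  rw [← Nat.card_eq_finsetCard]
  refine (Nat.card_eq_of_bijective (fun u : (T.orbSet H a : Finset ℕ) =>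
    (⟨T.vec u, by
      obtain ⟨-, g, hg, e⟩ := T.mem_orbSet.1 u.2
      exact ⟨⟨g, hg⟩, e⟩⟩ : Set.range fun g : H => (g : M) * T.vec a * (g : M)⁻¹)) ⟨?_, ?_⟩).symm
  · intro u v e
    exact Subtype.ext (T.vec_inj (T.mem_orbSet.1 u.2).1 (T.mem_orbSet.1 v.2).1 (congrArg Subtype.val e))
  · rintro ⟨x, g, rfl⟩
    obtain ⟨u, hu, e⟩ := T.vec_surj _ ((T.mem_NV.1 (hH g.2)) _ (T.vec_mem a ha))
    exact ⟨⟨u, T.mem_orbSet.2 ⟨hu, g, g.2, e.symm⟩⟩, Subtype.ext e⟩

theorem fv_conj [Finite M] {g : M} (hg : g ∈ normalizer (V : Set M)) {a b a' b' : ℕ} (ha : a < 256) (hb : b < 256)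
    (ha' : a' < 256) (hb' : b' < 256) (e : g * T.vec a * g⁻¹ = T.vec a') (e' : g * T.vec b * g⁻¹ = T.vec b') :
    fv a' b' = fv a b := by
  have hn := T.mem_NV.1 hg
  have q1 := T.qv_conj g hn a ha a' ha' e
  have q2 := T.qv_conj g hn b hb b' hb' e'
  have q3 := T.qv_conj g hn (a ^^^ b) (Nat.xor_lt_two_pow (n := 8) ha hb) (a' ^^^ b')
    (Nat.xor_lt_two_pow (n := 8) ha' hb') (by rw [T.vec_xor a ha b hb, T.vec_xor a' ha' b' hb', ← e, ← e']; group)
  rw [qv_xor, qv_xor, q1, q2] at q3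
  simpa using q3

theorem orbit_one [Finite M] {H : Subgroup M} (hL : L ≤ H) (hH : H ≤ normalizer (V : Set M)) :
    T.orbSet H 1 = unitList.toFinset := by
  ext u
  rw [T.mem_orbSet, List.mem_toFinset, unitList, List.mem_filter, List.mem_range]
  refine ⟨fun ⟨hu, g, hg, e⟩ => ⟨hu, ?_⟩, fun ⟨hu, hq⟩ => ⟨hu, ?_⟩⟩
  · rw [T.qv_conj g (T.mem_NV.1 (hH hg)) 1 (by norm_num) u hu e]
    decide +kernel
  · obtain ⟨w, hw, -⟩ := orbit_word (List.mem_filter.2 ⟨List.mem_range.2 hu, hq⟩)
    obtain ⟨l, hl, hlc⟩ := T.att_word (ev_att w)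
    refine ⟨l⁻¹, hL (L.inv_mem hl), ?_⟩
    have h1 : l * T.vec u * l⁻¹ = T.vec 1 := by rw [T.conj l hl u hu, hlc, hw]
    rw [← h1]; group

theorem orbit_four [Finite M] {H : Subgroup M} (hL : L ⊓ centralizer {T.vec 1} ⊓ centralizer {T.vec 2} ≤ H)
    (hH : H ≤ normalizer (V : Set M) ⊓ centralizer {T.vec 1} ⊓ centralizer {T.vec 2}) :
    T.orbSet H 4 = units0.toFinset := by
  ext u
  rw [T.mem_orbSet, List.mem_toFinset]
  constructor
  · rintro ⟨hu, g, hg, e⟩
    obtain ⟨⟨hgn, hg1⟩, hg2⟩ := hH hg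
    have f1 := T.fv_conj hgn (by norm_num) (by norm_num) hu (by norm_num) e
      (mul_inv_eq_iff_eq_mul.2 (mem_centralizer_singleton_iff.1 hg1) : g * T.vec 1 * g⁻¹ = T.vec 1)
    have f2 := T.fv_conj hgn (by norm_num) (by norm_num) hu (by norm_num) e
      (mul_inv_eq_iff_eq_mul.2 (mem_centralizer_singleton_iff.1 hg2) : g * T.vec 2 * g⁻¹ = T.vec 2)
    have hq := T.qv_conj g (T.mem_NV.1 hgn) 4 (by norm_num) u hu e
    simp only [units0, units, List.mem_filter, List.mem_range, Bool.and_eq_true, Bool.not_eq_eq_eq_not,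
      Bool.not_true]
    exact ⟨hu, ⟨hq.trans (by decide +kernel), f1.trans (by decide +kernel)⟩, f2.trans (by decide +kernel)⟩
  · intro hu
    have hu' : u < 256 := List.mem_range.1 (List.mem_filter.1 hu).1
    obtain ⟨w, w1, w2, w4⟩ := unit_word hu
    obtain ⟨l, hl, hlc⟩ := T.att_word (ev_att w)
    have c1 : Commute l (T.vec 1) := (T.commute_vec hl (by norm_num)).2 (by rw [hlc, w1])
    have c2 : Commute l (T.vec 2) := (T.commute_vec hl (by norm_num)).2 (by rw [hlc, w2])
    refine ⟨hu', l⁻¹, hL ⟨⟨L.inv_mem hl, mem_centralizer_singleton_iff.2 c1.inv_left⟩,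
      mem_centralizer_singleton_iff.2 c2.inv_left⟩, ?_⟩
    have h1 : l * T.vec u * l⁻¹ = T.vec 4 := by rw [T.conj l hl u hu', hlc, w4]
    rw [← h1]; group

theorem card_syl_dvd [Finite M] : 81 ∣ Nat.card L := by
  classical
  have h := syl_ok
  simp only [Bool.and_eq_true, Nat.beq_eq, List.all_eq_true, memB_iff, decide_eq_true_eq] at h
  obtain ⟨⟨⟨h81, hnd⟩, h1⟩, hcl⟩ := h
  obtain ⟨Cs, hCs⟩ : ∃ Cs, sylWords.map ev = Cs := ⟨_, rfl⟩
  rw [hCs] at h81 hnd h1 hcl
  let S : Subgroup L :=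
    { carrier := {l | T.code l ∈ Cs}
      one_mem' := by show T.code 1 ∈ Cs; rw [T.code_one]; exact h1
      mul_mem' := fun {a b} ha hb => by
        show T.code ((a : M) * b) ∈ Cs
        rw [T.code_mul _ a.2 _ b.2]
        exact hcl _ ha _ hb
      inv_mem' := fun {a} ha => by
        -- a finite submonoid is closed under inverses
        show T.code ((a : M)⁻¹) ∈ Cs
        have hp : ∀ n : ℕ, T.code ((a : M) ^ n) ∈ Cs := fun n => by
          induction n with
          | zero => rw [pow_zero, T.code_one]; exact h1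
          | succ n ih => rw [pow_succ, T.code_mul _ (L.pow_mem a.2 n) _ a.2]; exact hcl _ ih _ ha
        rw [inv_eq_of_mul_eq_one_right (show (a : M) * (a : M) ^ (orderOf (a : M) - 1) = 1 by
          rw [← pow_succ', Nat.sub_add_cancel (orderOf_pos _), pow_orderOf_eq_one])]
        exact hp _ }
  refine dvd_trans ?_ (card_subgroup_dvd_card S)
  have hex : ∀ c : Fin Cs.length, ∃ l : S, T.code (l : L) = Cs[c] := fun c => by
    have hc : Cs[c] ∈ sylWords.map ev := hCs ▸ List.getElem_mem c.2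
    obtain ⟨w, -, e⟩ := List.mem_map.1 hc
    obtain ⟨l, hl, hlc⟩ := T.att_word (ev_att w)
    exact ⟨⟨⟨l, hl⟩, show T.code l ∈ Cs by rw [hlc, e]; exact List.getElem_mem c.2⟩, by
      show T.code l = _; rw [hlc, e]⟩
  choose lift hlift using hex
  let f : Fin Cs.length × V → S := fun p => lift p.1 * ⟨⟨p.2, T.le p.2.2⟩,
    show T.code p.2 ∈ Cs by rw [T.code_vec p.2.2]; exact h1⟩
  have hcode : ∀ p, T.code (f p : L) = Cs[p.1] := fun p => by
    show T.code (((lift p.1 : L) : M) * (p.2 : M)) = _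
    rw [T.code_mul _ (lift p.1).1.2 _ (T.le p.2.2), T.code_vec p.2.2, cmp_idm (T.good _ (lift p.1).1.2).1,
      hlift]
  have hf : Function.Bijective f := by
    constructor
    · intro p q e
      have h' : Cs[p.1] = Cs[q.1] := by rw [← hcode p, ← hcode q, e]
      have e1 : p.1 = q.1 := Fin.ext ((hnd.getElem_inj_iff).1 h')
      refine Prod.ext e1 (Subtype.ext ?_)
      have e2 : ((lift p.1 : L) : M) * (p.2 : M) = ((lift q.1 : L) : M) * (q.2 : M) :=
        congrArg (fun z : S => ((z : L) : M)) e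
      rw [e1] at e2
      exact mul_left_cancel e2
    · intro s
      obtain ⟨i, hi, e⟩ := List.getElem_of_mem s.2
      have hl := (lift ⟨i, hi⟩).1.2
      have hv : ((lift ⟨i, hi⟩ : L) : M)⁻¹ * ((s : L) : M) ∈ V := by
        refine T.ker _ (L.mul_mem (L.inv_mem hl) s.1.2) ?_
        rw [T.code_mul _ (L.inv_mem hl) _ s.1.2, ← e]
        have := hlift ⟨i, hi⟩
        simp only [Fin.getElem_fin] at this
        rw [← this]
        exact (T.code_inv hl).1
      refine ⟨(⟨i, hi⟩, ⟨_, hv⟩), Subtype.ext (Subtype.ext ?_)⟩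
      show ((lift ⟨i, hi⟩ : L) : M) * (((lift ⟨i, hi⟩ : L) : M)⁻¹ * ((s : L) : M)) = _
      group
  rw [← Nat.card_eq_of_bijective f hf, Nat.card_prod, Nat.card_fin, h81]
  exact dvd_mul_right _ _

/-- A Sylow 3-subgroup of `L` is semiregular on the other cosets. -/
theorem index_mod [Finite M] {k : ℕ} (hk : Nat.card (normalizer (V : Set M)) = k * Nat.card L) :
    k % 81 = 1 := by
  classical
  have := Fact.mk Nat.prime_three
  obtain ⟨P⟩ : Nonempty (Sylow 3 L) := inferInstance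
  have hP81 : 81 ∣ Nat.card P := by
    rw [P.card_eq_multiplicity]
    exact (pow_dvd_pow 3 (Nat.Prime.pow_dvd_iff_le_factorization Nat.prime_three Nat.card_pos.ne' |>.1
      (show 3 ^ 4 ∣ Nat.card L from T.card_syl_dvd)) : 3 ^ 4 ∣ _)
  let N := normalizer (V : Set M)
  let Q := N ⧸ L.subgroupOf N
  have hQ : Nat.card Q = k := by
    have h := card_eq_card_quotient_mul_card_subgroup (L.subgroupOf N)
    rw [Nat.card_congr (subgroupOfEquivOfLe T.L_le_NV).toEquiv, hk] at h
    exact (Nat.eq_of_mul_eq_mul_right Nat.card_pos h).symm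
  let : MulAction P Q := MulAction.compHom Q ((inclusion T.L_le_NV).comp (P : Subgroup L).subtype)
  have hbase : ∀ p : P, p • ((1 : N) : Q) = ((1 : N) : Q) := fun p => by
    show ((inclusion T.L_le_NV (p : L) * 1 : N) : Q) = _
    rw [QuotientGroup.eq, mem_subgroupOf]
    simp only [coe_mul, coe_inv, OneMemClass.coe_one, mul_one, coe_inclusion]
    exact L.inv_mem (p : L).2
  have hfree : ∀ q : Q, q ≠ ((1 : N) : Q) → MulAction.stabilizer P q = ⊥ := by
    intro q hq
    by_contra hne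
    obtain ⟨⟨p, hp⟩, hp3⟩ := exists_prime_orderOf_dvd_card' 3
      (((P.2.to_subgroup (MulAction.stabilizer P q)).card_eq_or_dvd).resolve_left fun h =>
        hne (Subgroup.card_eq_one.1 h))
    rw [Subgroup.orderOf_mk] at hp3
    induction q using QuotientGroup.induction_on with
    | _ g =>
      refine hq ?_
      have h : ((inclusion T.L_le_NV (p : L) * g : N) : Q) = (g : Q) := hp
      rw [QuotientGroup.eq, mem_subgroupOf] at h
      simp only [coe_mul, coe_inv, coe_inclusion, mul_inv_rev] at h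
      have hpo : orderOf ((p : L) : M) = 3 := by rw [Subgroup.orderOf_coe, Subgroup.orderOf_coe, hp3]
      have hg : (g : M)⁻¹ ∈ L := T.three _ (p : L).2 hpo _ (by
        rw [show (g : M)⁻¹ * ((p : L) : M) * ((g : M)⁻¹)⁻¹ = (((g : M)⁻¹ * ((p : L) : M)⁻¹) * (g : M))⁻¹ by group]
        exact L.inv_mem h)
      rw [QuotientGroup.eq, mem_subgroupOf]
      simpa using hg
  have hfix : Nat.card P ∣ Nat.card {q : Q // q ≠ ((1 : N) : Q)} := by
    have hinv : ∀ (p : P) (q : Q), q ≠ ((1 : N) : Q) → p • q ≠ ((1 : N) : Q) := fun p q hq e =>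
      hq (by rw [← hbase p⁻¹, ← e, inv_smul_smul])
    let act : MulAction P {q : Q // q ≠ ((1 : N) : Q)} :=
      { smul := fun p q => ⟨p • q.1, hinv p _ q.2⟩
        one_smul := fun q => Subtype.ext (one_smul P q.1)
        mul_smul := fun a b q => Subtype.ext (mul_smul a b q.1) }
    have e := Nat.card_congr (MulAction.selfEquivSigmaOrbits P {q : Q // q ≠ ((1 : N) : Q)})
    have := Fintype.ofFinite (MulAction.orbitRel.Quotient P {q : Q // q ≠ ((1 : N) : Q)})
    rw [e, Nat.card_sigma]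
    refine Finset.dvd_sum fun o _ => ?_
    have hs : MulAction.stabilizer P o.out = ⊥ := by
      rw [eq_bot_iff, ← hfree _ o.out.2]
      intro p hp
      exact Subtype.ext_iff.1 hp
    have hc := Nat.card_congr (MulAction.orbitProdStabilizerEquivGroup P o.out)
    rw [Nat.card_prod, hs, Subgroup.card_bot, mul_one] at hc
    exact dvd_of_eq hc.symm
  have hsplit : k = Nat.card {q : Q // q ≠ ((1 : N) : Q)} + 1 := by
    have := Fintype.ofFinite Q
    rw [← hQ, Nat.card_eq_fintype_card (α := {q : Q // q ≠ ((1 : N) : Q)})]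
    rw [Nat.card_eq_fintype_card, Fintype.card_subtype_compl, Fintype.card_subtype_eq]
    have : 0 < Fintype.card Q := Fintype.card_pos_iff.2 ⟨((1 : N) : Q)⟩
    omega
  obtain ⟨c, hc⟩ := hP81.trans hfix
  rw [hsplit, hc]
  omega

theorem orbit_two [Finite M] :
    ∃ e o, e ∈ [1, 2] ∧ o ∈ [1, 2, 28, 56] ∧ (e = 2 → o = 2 ∨ o = 56) ∧
      (T.orbSet (L ⊓ centralizer {T.vec 1}) 2).card = e ∧
      (T.orbSet (normalizer (V : Set M) ⊓ centralizer {T.vec 1}) 2).card = o := by
  classical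
  obtain ⟨H, hH⟩ : ∃ H, normalizer (V : Set M) ⊓ centralizer {T.vec 1} = H := ⟨_, rfl⟩
  have hHn : H ≤ normalizer (V : Set M) := hH ▸ inf_le_left
  have hH1 : ∀ g ∈ H, g * T.vec 1 * g⁻¹ = T.vec 1 := fun g hg => by
    rw [← hH] at hg
    exact mul_inv_eq_iff_eq_mul.2 (mem_centralizer_singleton_iff.1 hg.2)
  have hLH : L ⊓ centralizer {T.vec 1} ≤ H := hH ▸ inf_le_inf_right _ T.L_le_NV
  obtain ⟨hc56, hcA, hcB, hsub⟩ := cross_sets
  have hcov := cross_cover
  simp only [List.all_eq_true, Bool.or_eq_true, Bool.and_eq_true, Nat.beq_eq, memB_iff] at hsub hcov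
  obtain ⟨A, hA⟩ : ∃ A, (crossWords.map Prod.fst).toFinset = A := ⟨_, rfl⟩
  obtain ⟨B, hB⟩ : ∃ B, ((crossWords.map Prod.fst).map fun v => v ^^^ 1).toFinset = B := ⟨_, rfl⟩
  rw [hA] at hcA
  rw [hB] at hcB
  have memA : ∀ u, u ∈ A ↔ u ∈ crossWords.map Prod.fst := fun u => by rw [← hA, List.mem_toFinset]
  have memB' : ∀ u, u ∈ B ↔ u ^^^ 1 ∈ A := fun u => by
    rw [← hB, List.mem_toFinset, List.mem_map]
    constructor
    · rintro ⟨v, hv, rfl⟩
      rw [Nat.xor_assoc, Nat.xor_self, Nat.xor_zero]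
      exact (memA v).2 hv
    · intro h
      exact ⟨u ^^^ 1, (memA _).1 h, by rw [Nat.xor_assoc, Nat.xor_self, Nat.xor_zero]⟩
  obtain ⟨O, hO⟩ : ∃ O, T.orbSet H 2 = O := ⟨_, rfl⟩
  have hcross : O ⊆ crossList.toFinset := fun u hu => by
    obtain ⟨hu', g, hg, e⟩ := T.mem_orbSet.1 (hO ▸ hu)
    have f1 := T.fv_conj (hHn hg) (by norm_num) (by norm_num) hu' (by norm_num) e (hH1 g hg)
    have q := T.qv_conj g (T.mem_NV.1 (hHn hg)) 2 (by norm_num) u hu' e
    rw [List.mem_toFinset, crossList, List.mem_filter, List.mem_range]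
    exact ⟨hu', by rw [Bool.and_eq_true]; exact ⟨q.trans (by decide +kernel), f1.trans (by decide +kernel)⟩⟩
  have two : 2 ∈ O := hO ▸ T.mem_orbSet.2 ⟨by norm_num, 1, H.one_mem, by group⟩
  have cl : ∀ u ∈ O, ∀ l ∈ L, Commute l (T.vec 1) → app (T.code l) u ∈ O := by
    intro u hu l hl hl1
    obtain ⟨hu', g, hg, e⟩ := T.mem_orbSet.1 (hO ▸ hu)
    refine hO ▸ T.mem_orbSet.2 ⟨app_lt _ _, l * g, H.mul_mem (hLH ⟨hl, mem_centralizer_singleton_iff.2 hl1⟩) hg, ?_⟩
    rw [← T.conj l hl u hu', ← e]; group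
  have clA : ∀ u ∈ O, u ∈ A → A ⊆ O := fun u hu huA u' hu' => by
    obtain ⟨l, hl, hl1, e, -⟩ := T.cross_reach ((memA u).1 huA) ((memA u').1 hu')
    exact e ▸ cl u hu l hl hl1
  have clB : ∀ u ∈ O, u ∈ B → B ⊆ O := fun u hu huB u' hu' => by
    obtain ⟨l, hl, hl1, -, e⟩ := T.cross_reach ((memA _).1 ((memB' u).1 huB)) ((memA _).1 ((memB' u').1 hu'))
    rw [Nat.xor_assoc, Nat.xor_self, Nat.xor_zero, Nat.xor_assoc, Nat.xor_self, Nat.xor_zero] at e
    exact e ▸ cl u hu l hl hl1
  have shift : ∀ g ∈ H, ∀ u < 256, g * T.vec 2 * g⁻¹ = T.vec u → g * T.vec 3 * g⁻¹ = T.vec (u ^^^ 1) := by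
    intro g hg u hu e
    rw [show (3 : ℕ) = 2 ^^^ 1 by decide, T.vec_xor 2 (by norm_num) 1 (by norm_num), T.vec_xor u hu 1 (by norm_num),
      ← e]
    conv_rhs => rw [← hH1 g hg]
    group
  have hAB : ∀ u ∈ O, u ^^^ 1 ∈ O → 3 ∈ O := by
    intro u hu hu1
    obtain ⟨hu', g, hg, e⟩ := T.mem_orbSet.1 (hO ▸ hu)
    obtain ⟨-, g', hg', e'⟩ := T.mem_orbSet.1 (hO ▸ hu1)
    refine hO ▸ T.mem_orbSet.2 ⟨by norm_num, g⁻¹ * g', H.mul_mem (H.inv_mem hg) hg', ?_⟩
    rw [show g⁻¹ * g' * T.vec 2 * (g⁻¹ * g')⁻¹ = g⁻¹ * (g' * T.vec 2 * g'⁻¹) * g by group, e',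
      ← shift g hg u hu' e]
    group
  have hthree : 3 ∈ O → ∀ u ∈ O, u ^^^ 1 ∈ O := by
    intro h3 u hu
    obtain ⟨hu', g, hg, e⟩ := T.mem_orbSet.1 (hO ▸ hu)
    obtain ⟨-, f, hf, ef⟩ := T.mem_orbSet.1 (hO ▸ h3)
    refine hO ▸ T.mem_orbSet.2 ⟨Nat.xor_lt_two_pow (n := 8) hu' (by norm_num), g * f, H.mul_mem hg hf, ?_⟩
    rw [show g * f * T.vec 2 * (g * f)⁻¹ = g * (f * T.vec 2 * f⁻¹) * g⁻¹ by group, ef, shift g hg u hu' e]
  have cases' : ∀ u ∈ O, u = 2 ∨ u = 3 ∨ u ∈ A ∨ u ∈ B := fun u hu => by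
    have := hcov u (List.mem_toFinset.1 (hcross hu))
    rcases this with ((h | h) | h) | h
    · exact Or.inl h
    · exact Or.inr (Or.inl h)
    · exact Or.inr (Or.inr (Or.inl ((memA u).2 h)))
    · exact Or.inr (Or.inr (Or.inr ((memB' u).2 ((memA _).2 h))))
  have ho : (3 ∈ O ∧ (O.card = 2 ∨ O.card = 56)) ∨ (3 ∉ O ∧ (O.card = 1 ∨ O.card = 28)) := by
    by_cases h3 : 3 ∈ O
    · refine Or.inl ⟨h3, ?_⟩
      by_cases hex : ∃ u ∈ O, u ∈ A ∨ u ∈ B
      · right
        obtain ⟨u, hu, hu'⟩ := hex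
        have hA0 : A ⊆ O ∧ B ⊆ O := by
          rcases hu' with h | h
          · refine ⟨clA u hu h, clB _ (hthree h3 u hu) ((memB' _).2 ?_)⟩
            rwa [Nat.xor_assoc, Nat.xor_self, Nat.xor_zero]
          · exact ⟨clA _ (hthree h3 u hu) ((memB' u).1 h), clB u hu h⟩
        rw [← hc56]
        congr 1
        refine Finset.Subset.antisymm hcross fun v hv => ?_
        rcases hcov v (List.mem_toFinset.1 hv) with ((h | h) | h) | h
        · exact h ▸ two
        · exact h ▸ h3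
        · exact hA0.1 ((memA v).2 h)
        · exact hA0.2 ((memB' v).2 ((memA _).2 h))
      · left
        push Not at hex
        rw [show O = {2, 3} from Finset.Subset.antisymm (fun u hu => by
            rcases cases' u hu with h | h | h | h
            · simp [h]
            · simp [h]
            · exact absurd h (hex u hu).1
            · exact absurd h (hex u hu).2)
          (by simp [Finset.insert_subset_iff, two, h3])]
        rfl
    · refine Or.inr ⟨h3, ?_⟩
      by_cases hex : ∃ u ∈ O, u ∈ A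
      · right
        obtain ⟨u, hu, hu'⟩ := hex
        rw [show O = insert 2 A from Finset.Subset.antisymm (fun v hv => by
            rcases cases' v hv with h | h | h | h
            · simp [h]
            · exact absurd (h ▸ hv) h3
            · exact Finset.mem_insert_of_mem h
            · exact absurd (hAB v hv (clA u hu hu' ((memB' v).1 h))) h3)
          (Finset.insert_subset_iff.2 ⟨two, clA u hu hu'⟩)]
        exact hcA
      · push Not at hex
        by_cases hexB : ∃ u ∈ O, u ∈ B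
        · right
          obtain ⟨u, hu, hu'⟩ := hexB
          rw [show O = insert 2 B from Finset.Subset.antisymm (fun v hv => by
              rcases cases' v hv with h | h | h | h
              · simp [h]
              · exact absurd (h ▸ hv) h3
              · exact absurd h (hex v hv)
              · exact Finset.mem_insert_of_mem h)
            (Finset.insert_subset_iff.2 ⟨two, clB u hu hu'⟩)]
          exact hcB
        · left
          push Not at hexB
          rw [show O = {2} from Finset.Subset.antisymm (fun v hv => by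
              rcases cases' v hv with h | h | h | h
              · simp [h]
              · exact absurd (h ▸ hv) h3
              · exact absurd h (hex v hv)
              · exact absurd h (hexB v hv))
            (by simp [two])]
          rfl
  obtain ⟨E, hE⟩ : ∃ E, T.orbSet (L ⊓ centralizer {T.vec 1}) 2 = E := ⟨_, rfl⟩
  have hE2 : 2 ∈ E := hE ▸ T.mem_orbSet.2 ⟨by norm_num, 1, one_mem _, by group⟩
  have hEs : E ⊆ {2, 3} := fun u hu => by
    obtain ⟨hu', g, ⟨hgL, hg1⟩, e⟩ := T.mem_orbSet.1 (hE ▸ hu)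
    have h := fix1_two (T.good g hgL) ((T.commute_vec hgL (by norm_num)).1 (mem_centralizer_singleton_iff.1 hg1))
    rw [(T.app_code hgL (by norm_num) hu').1 e] at h
    simpa using h
  have hEO : E ⊆ O := fun u hu => by
    obtain ⟨hu', g, hg, e⟩ := T.mem_orbSet.1 (hE ▸ hu)
    exact hO ▸ T.mem_orbSet.2 ⟨hu', g, hLH hg, e⟩
  have he : E.card = 1 ∨ E.card = 2 := by
    have h1 := Finset.card_le_card hEs
    have h2 := Finset.card_pos.2 ⟨2, hE2⟩
    simp at h1
    omega
  refine ⟨E.card, O.card, by rcases he with e | e <;> simp [e], ?_, fun e => ?_, by rw [hE], by rw [hH, hO]⟩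
  · rcases ho with ⟨-, h | h⟩ | ⟨-, h | h⟩ <;> simp [h]
  · rcases ho with ⟨-, h⟩ | ⟨h3, -⟩
    · exact h
    · exfalso
      have : E = {2, 3} := Finset.eq_of_subset_of_card_le hEs (by simp [e])
      exact h3 (hEO (this ▸ by simp))

/-- `L` is the normaliser of `V`. -/
theorem norm [Finite M] (g : M) (hg : ∀ x ∈ V, g * x * g⁻¹ ∈ V) : g ∈ L := by
  classical
  suffices h : normalizer (V : Set M) = L by
    rw [← h]; exact T.mem_NV.2 hg
  obtain ⟨e, o, he, ho, heo, hE, hO⟩ := T.orbit_two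
  -- the three orbit equations on both sides
  obtain ⟨N, hN⟩ : ∃ N, normalizer (V : Set M) = N := ⟨_, rfl⟩
  rw [hN]
  rw [hN] at hO
  have hNn : N ≤ normalizer (V : Set M) := hN.ge
  have hLN : L ≤ N := hN ▸ T.L_le_NV
  have n1 := T.card_orbit hNn (a := 1) (by norm_num)
  have n2 := T.card_orbit (H := N ⊓ centralizer {T.vec 1}) (inf_le_left.trans hNn) (a := 2) (by norm_num)
  have n3 := T.card_orbit (H := N ⊓ centralizer {T.vec 1} ⊓ centralizer {T.vec 2})
    ((inf_le_left.trans inf_le_left).trans hNn) (a := 4) (by norm_num)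
  have l1 := T.card_orbit T.L_le_NV (a := 1) (by norm_num)
  have l2 := T.card_orbit (H := L ⊓ centralizer {T.vec 1}) (inf_le_left.trans T.L_le_NV) (a := 2) (by norm_num)
  have l3 := T.card_orbit (H := L ⊓ centralizer {T.vec 1} ⊓ centralizer {T.vec 2})
    ((inf_le_left.trans inf_le_left).trans T.L_le_NV) (a := 4) (by norm_num)
  rw [T.orbit_one hLN hNn, List.toFinset_card_of_nodup nodup_units,
    unit_counts.1] at n1
  rw [T.orbit_one le_rfl T.L_le_NV, List.toFinset_card_of_nodup nodup_units,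
    unit_counts.1] at l1
  rw [hO] at n2
  rw [hE] at l2
  rw [T.orbit_four (inf_le_inf_right _ (inf_le_inf_right _ hLN)) (by rw [hN]),
    List.toFinset_card_of_nodup nodup_units0, unit_counts.2] at n3
  rw [T.orbit_four le_rfl (inf_le_inf_right _ (inf_le_inf_right _ T.L_le_NV)),
    List.toFinset_card_of_nodup nodup_units0, unit_counts.2] at l3
  obtain ⟨D, hD⟩ : ∃ D, N ⊓ centralizer {T.vec 1} ⊓ centralizer {T.vec 2} ⊓ centralizer {T.vec 4} = D :=
    ⟨_, rfl⟩
  obtain ⟨D', hD'⟩ : ∃ D', L ⊓ centralizer {T.vec 1} ⊓ centralizer {T.vec 2} ⊓ centralizer {T.vec 4} = D' :=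
    ⟨_, rfl⟩
  rw [hD] at n3
  rw [hD'] at l3
  have hDD : D' ≤ D := hD' ▸ hD ▸ inf_le_inf_right _ (inf_le_inf_right _ (inf_le_inf_right _ hLN))
  obtain ⟨k', hk'⟩ := card_dvd_of_le hDD
  obtain ⟨k, hk⟩ := card_dvd_of_le hLN
  have hk81 := T.index_mod (k := k) (by rw [hN, hk, mul_comm])
  -- the order of the stabiliser of three vectors
  have hDeq : D = T.N124 := by rw [← hD, ← hN]; rfl
  have hVD : V ≤ D := by
    intro x hx
    rw [hDeq, T.mem_N124]
    exact ⟨T.L_le_NV (T.le hx), T.comm hx (T.vec_mem _ (by norm_num)), T.comm hx (T.vec_mem _ (by norm_num)),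
      T.comm hx (T.vec_mem _ (by norm_num))⟩
  obtain ⟨I, hI⟩ : ∃ I, (T.N124.subgroupOf (normalizer (V : Set M))).map T.perm = I := ⟨_, rfl⟩
  have cardD : Nat.card D = 256 * Nat.card I := by
    rw [← hI, ← T.card_map_perm _ (fun x hx => hDeq ▸ hVD hx), hDeq]
    exact (Nat.card_congr (subgroupOfEquivOfLe (show T.N124 ≤ normalizer (V : Set M) from
      fun x hx => (T.mem_N124.1 hx).1)).toEquiv).symm
  have hD6 : 256 * 6 ≤ Nat.card D' := by
    have hs := six_ok
    simp only [Bool.and_eq_true, decide_eq_true_eq, List.all_eq_true, Nat.beq_eq] at hs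
    have hatt : ∀ c ∈ sixCodes, Att c := by
      intro c hc
      have hx := ev_att rootWord
      have hr := rr_att
      have mul : ∀ {a b : ℕ}, Att a → Att b → Att (⊚ a b) := by
        rintro _ _ ⟨v, rfl⟩ ⟨w, rfl⟩
        exact ⟨v ++ w, (ev_append v w).symm⟩
      simp only [sixCodes, List.mem_cons, List.not_mem_nil, or_false] at hc
      rcases hc with rfl | rfl | rfl | rfl | rfl | rfl
      exacts [⟨[], rfl⟩, hr, hx, mul hx hx, mul hx hr, mul (mul hx hx) hr]
    have hex : ∀ c : Fin sixCodes.length, ∃ l : D', T.code l = sixCodes[c] := fun c => by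
      obtain ⟨l, hl, hlc⟩ := T.att_word (hatt _ (List.getElem_mem c.2))
      obtain ⟨⟨a, b⟩, d⟩ := hs.2 _ (List.getElem_mem c.2)
      refine ⟨⟨l, ?_⟩, hlc⟩
      rw [← hD']
      refine ⟨⟨⟨hl, ?_⟩, ?_⟩, ?_⟩ <;> refine mem_centralizer_singleton_iff.2 ((T.commute_vec hl (by norm_num)).2 ?_) <;>
        rw [hlc] <;> assumption
    choose lift hlift using hex
    let f : Fin sixCodes.length × V → D' := fun p => lift p.1 * ⟨p.2, by
      rw [← hD']
      exact ⟨⟨⟨T.le p.2.2, mem_centralizer_singleton_iff.2 (T.comm p.2.2 (T.vec_mem _ (by norm_num)))⟩,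
        mem_centralizer_singleton_iff.2 (T.comm p.2.2 (T.vec_mem _ (by norm_num)))⟩,
        mem_centralizer_singleton_iff.2 (T.comm p.2.2 (T.vec_mem _ (by norm_num)))⟩⟩
    have hf : Function.Injective f := by
      intro p q e
      have hl : ∀ i, (lift i : M) ∈ L := fun i => by
        exact (hD'.ge (lift i).2).1.1.1
      have hc : ∀ r, T.code (f r : M) = sixCodes[r.1] := fun r => by
        show T.code ((lift r.1 : M) * (r.2 : M)) = _
        rw [T.code_mul _ (hl _) _ (T.le r.2.2), T.code_vec r.2.2, cmp_idm (T.good _ (hl _)).1, hlift]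
      have e1 : p.1 = q.1 := Fin.ext ((hs.1.getElem_inj_iff).1 (by
        have := (hc p).symm.trans ((congrArg (fun z : D' => T.code (z : M)) e).trans (hc q))
        exact this))
      refine Prod.ext e1 (Subtype.ext ?_)
      have e2 : (lift p.1 : M) * (p.2 : M) = (lift q.1 : M) * (q.2 : M) := congrArg Subtype.val e
      rw [e1] at e2
      exact mul_left_cancel e2
    have := Nat.card_le_card_of_injective f hf
    rw [Nat.card_prod, Nat.card_fin, T.card_V] at this
    have h6 : sixCodes.length = 6 := by simp [sixCodes]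
    omega
  have hI14 : Nat.card I ≤ 14400 := hI ▸ T.image_le
  have hk'2400 : k' ≤ 2400 := by
    by_contra hlt
    push Not at hlt
    have := Nat.mul_le_mul hD6 (show 2401 ≤ k' by omega)
    omega
  -- the primes dividing `k'` are at most five
  have hsm : k' ∣ 60 ^ 14 := by
    have hk0 : k' ≠ 0 := fun h => by rw [h, mul_zero] at hk'; exact Nat.card_pos.ne' hk'
    have hp : ∀ p, p.Prime → p ∣ k' → p ≤ 5 := by
      intro p hp hpk
      by_contra h5
      have h7 : 7 ≤ p := by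
        rcases Nat.lt_or_ge p 7 with h | h
        · have : p = 6 := by omega
          subst this; norm_num at hp
        · exact h
      have hpD : p ∣ 256 * Nat.card I := cardD ▸ hk' ▸ dvd_mul_of_dvd_right hpk _
      rcases hp.dvd_mul.1 hpD with h | h
      · have h256 : p ∣ 2 ^ 8 := h
        have := Nat.le_of_dvd (by norm_num) (hp.dvd_of_dvd_pow h256)
        omega
      · exact T.image_prime hp h7 (hI ▸ h)
    refine (Nat.factorization_le_iff_dvd hk0 (by norm_num)).1 fun p => ?_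
    by_cases hpp : p.Prime
    swap
    · simp [Nat.factorization_eq_zero_of_not_prime _ hpp]
    by_cases hpk : p ∣ k'
    swap
    · simp [Nat.factorization_eq_zero_of_not_dvd hpk]
    obtain ⟨j, hj, hj'⟩ : ∃ j, k'.factorization p ≤ j ∧ p ^ j ∣ 60 ^ 14 := by
      have h2 : p ^ k'.factorization p ≤ 2400 :=
        (Nat.le_of_dvd (Nat.pos_of_ne_zero hk0) (Nat.ordProj_dvd k' p)).trans hk'2400
      have h5 := hp p hpp hpk
      have hc : p = 2 ∨ p = 3 ∨ p = 5 := by
        rcases (show p = 0 ∨ p = 1 ∨ p = 2 ∨ p = 3 ∨ p = 4 ∨ p = 5 by omega) with rfl | rfl | h | h | rfl | h <;>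
          first
          | omega
          | (exfalso; revert hpp; norm_num)
      refine ⟨14, ?_, by rcases hc with rfl | rfl | rfl <;> norm_num⟩
      by_contra hlt
      push Not at hlt
      have := Nat.pow_le_pow_right (show 1 ≤ p from hpp.one_le) (show 15 ≤ k'.factorization p by omega)
      rcases hc with rfl | rfl | rfl <;> omega
    exact hj.trans ((hpp.pow_dvd_iff_le_factorization (by norm_num)).1 hj')
  -- the index
  have hm : ∃ m ∈ [1, 2, 28, 56], o = m * e := by
    simp only [List.mem_cons, List.not_mem_nil, or_false] at he ho ⊢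
    rcases he with rfl | rfl
    · exact ⟨o, ho, (mul_one o).symm⟩
    · rcases heo rfl with rfl | rfl
      · exact ⟨1, by simp, rfl⟩
      · exact ⟨28, by simp, rfl⟩
  obtain ⟨m, hm, rfl⟩ := hm
  have hkm : k = m * k' := by
    have he0 : 0 < e := by
      simp only [List.mem_cons, List.not_mem_nil, or_false] at he
      rcases he with rfl | rfl <;> norm_num
    have hD0 : 0 < Nat.card D' := Nat.card_pos
    rw [n2, n3, hk'] at n1
    rw [l2, l3] at l1
    rw [n1, l1] at hk
    have : (120 * e * 36 * Nat.card D') * k = (120 * e * 36 * Nat.card D') * (m * k') := by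
      calc (120 * e * 36 * Nat.card D') * k = 120 * (e * (36 * Nat.card D')) * k := by ring
        _ = 120 * (m * e * (36 * (Nat.card D' * k'))) := hk.symm
        _ = (120 * e * 36 * Nat.card D') * (m * k') := by ring
    exact Nat.eq_of_mul_eq_mul_left (by positivity) this
  have hs := smooth_cases
  simp only [List.all_eq_true, List.mem_range, Bool.or_eq_true, Bool.and_eq_true, Nat.beq_eq,
    Bool.not_eq_true', Bool.and_eq_false_iff] at hs
  have hs' := hs m hm k' (by omega)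
  have h1 : k = 1 := by
    rcases hs' with (h | h) | ⟨rfl, rfl⟩
    · rw [← hkm, hk81] at h; simp at h
    · rw [Nat.mod_eq_zero_of_dvd hsm] at h; simp at h
    · rw [hkm]
  rw [h1, mul_one] at hk
  exact (eq_of_le_of_card_ge hLN hk.le).symm

end Tw

end Cfsg.Agent.U62Three.C
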