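import Cfsg.Agent.U62Three.C.Code.Facts
import Cfsg.Agent.TwoClassClosed.Singular
import Cfsg.Agent.Coprime.Generation
import Cfsg.Agent.Fusion.PGroup

/-!
# The unitary tower: hypotheses and first consequences

`M` stands for the centraliser of the involution modulo the involution, `V` for the normal elementary abelian
subgroup of order 256, `L` for its normaliser; elements of order three of `L` are rigid.
-/

set_option autoImplicit false
set_option linter.unusedSectionVars false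

open Subgroup

namespace Cfsg.Agent.U62Three.C

open U62Rec K.Code Code TwoClassClosed

local notation "⊚" => U62Rec.cmp

universe u

variable {M : Type u} [Group M]

/-- The hypotheses of the tower. -/
structure Tw (L V : Subgroup M) where
  le : V ≤ L
  /-- The vectors. -/
  vec : ℕ → M
  /-- The maps induced on the vectors. -/
  code : M → ℕ
  vec_mem : ∀ a < 256, vec a ∈ V
  vec_xor : ∀ a < 256, ∀ b < 256, vec (a ^^^ b) = vec a * vec b
  vec_ker : ∀ a < 256, vec a = 1 → a = 0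
  vec_surj : ∀ x ∈ V, ∃ a < 256, vec a = x
  good : ∀ l ∈ L, Good (code l)
  code_mul : ∀ l ∈ L, ∀ m ∈ L, code (l * m) = ⊚ (code l) (code m)
  conj : ∀ l ∈ L, ∀ a < 256, l * vec a * l⁻¹ = vec (app (code l) a)
  ker : ∀ l ∈ L, code l = idm → l ∈ V
  att : ∀ g ∈ gensS, ∃ l ∈ L, code l = g
  /-- Normalising elements preserve the quadratic form. -/
  qv_conj : ∀ g : M, (∀ x ∈ V, g * x * g⁻¹ ∈ V) →
    ∀ a < 256, ∀ b < 256, g * vec a * g⁻¹ = vec b → qv 255 b = qv 255 a
  three : ∀ x ∈ L, orderOf x = 3 → Rigid L x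

variable {L V : Subgroup M} (T : Tw L V)

namespace Tw

include T

theorem vec_zero : T.vec 0 = 1 := by
  have h := T.vec_xor 0 (by norm_num) 0 (by norm_num)
  rw [Nat.xor_self] at h
  exact left_eq_mul.1 h

theorem vec_sq {a : ℕ} (ha : a < 256) : T.vec a * T.vec a = 1 := by
  rw [← T.vec_xor a ha a ha, Nat.xor_self, T.vec_zero]

theorem vec_inv {a : ℕ} (ha : a < 256) : (T.vec a)⁻¹ = T.vec a :=
  inv_eq_of_mul_eq_one_right (T.vec_sq ha)

theorem vec_comm {a b : ℕ} (ha : a < 256) (hb : b < 256) : Commute (T.vec a) (T.vec b) := by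
  rw [commute_iff_eq, ← T.vec_xor a ha b hb, ← T.vec_xor b hb a ha, Nat.xor_comm]

theorem vec_inj {a b : ℕ} (ha : a < 256) (hb : b < 256) (h : T.vec a = T.vec b) : a = b := by
  have h1 : T.vec (a ^^^ b) = 1 := by rw [T.vec_xor a ha b hb, h, T.vec_sq hb]
  have h2 := T.vec_ker _ (Nat.xor_lt_two_pow (n := 8) ha hb) h1
  exact Nat.xor_eq_zero_iff.1 h2

theorem sq {x : M} (hx : x ∈ V) : x * x = 1 := by
  obtain ⟨a, ha, rfl⟩ := T.vec_surj x hx
  exact T.vec_sq ha

theorem inv_eq {x : M} (hx : x ∈ V) : x⁻¹ = x := inv_eq_of_mul_eq_one_right (T.sq hx)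

theorem comm {x y : M} (hx : x ∈ V) (hy : y ∈ V) : Commute x y := by
  obtain ⟨a, ha, rfl⟩ := T.vec_surj x hx
  obtain ⟨b, hb, rfl⟩ := T.vec_surj y hy
  exact T.vec_comm ha hb

theorem conj_mem {l x : M} (hl : l ∈ L) (hx : x ∈ V) : l * x * l⁻¹ ∈ V := by
  obtain ⟨a, ha, rfl⟩ := T.vec_surj x hx
  rw [T.conj l hl a ha]
  exact T.vec_mem _ (app_lt _ _)

/-- The code is determined by the action. -/
theorem code_eq {l : M} (hl : l ∈ L) {m : ℕ} (hm : IsCode m)
    (h : ∀ a < 256, l * T.vec a * l⁻¹ = T.vec (app m a)) : T.code l = m :=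
  code_ext (T.good l hl).1 hm fun a ha =>
    T.vec_inj (app_lt _ _) (app_lt _ _) (by rw [← T.conj l hl a ha, h a ha])

theorem code_vec {x : M} (hx : x ∈ V) : T.code x = idm :=
  T.code_eq (T.le hx) isCode_idm fun a ha => by
    rw [app_idm ha, (T.comm hx (T.vec_mem a ha)).eq, mul_inv_cancel_right]

theorem code_one : T.code 1 = idm := T.code_vec V.one_mem

theorem code_inv {l : M} (hl : l ∈ L) :
    ⊚ (T.code l⁻¹) (T.code l) = idm ∧ ⊚ (T.code l) (T.code l⁻¹) = idm := by
  rw [← T.code_mul _ (L.inv_mem hl) _ hl, ← T.code_mul _ hl _ (L.inv_mem hl), inv_mul_cancel,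
    mul_inv_cancel, T.code_one]
  exact ⟨rfl, rfl⟩

theorem app_code {l : M} (hl : l ∈ L) {a b : ℕ} (ha : a < 256) (hb : b < 256) :
    l * T.vec a * l⁻¹ = T.vec b ↔ app (T.code l) a = b := by
  rw [T.conj l hl a ha]
  exact ⟨T.vec_inj (app_lt _ _) hb, fun e => by rw [e]⟩

/-- An element commutes with a vector when its code fixes it. -/
theorem commute_vec {l : M} (hl : l ∈ L) {a : ℕ} (ha : a < 256) :
    Commute l (T.vec a) ↔ app (T.code l) a = a := by
  rw [← T.app_code hl ha ha, mul_inv_eq_iff_eq_mul, commute_iff_eq]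

theorem mem_of_commute_all {l : M} (hl : l ∈ L) (h : ∀ a < 256, Commute l (T.vec a)) : l ∈ V :=
  T.ker l hl (code_ext (T.good l hl).1 isCode_idm fun a ha => by
    rw [(T.commute_vec hl ha).1 (h a ha), app_idm ha])

/-- Words in the generators are attained. -/
theorem att_word {y : ℕ} (hy : Att y) : ∃ l ∈ L, T.code l = y := by
  obtain ⟨w, rfl⟩ := hy
  induction w with
  | nil => exact ⟨1, L.one_mem, T.code_one⟩
  | cons k w ih =>
    obtain ⟨m, hm, hm'⟩ := ih
    show ∃ l ∈ L, T.code l = ⊚ (gensS.getD k idm) (evW gensS w)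
    rcases lt_or_ge k gensS.length with hk | hk
    · obtain ⟨l, hl, hl'⟩ := T.att _ (List.getElem_mem hk)
      refine ⟨l * m, L.mul_mem hl hm, ?_⟩
      rw [T.code_mul l hl m hm, hl', hm', List.getD_eq_getElem _ _ hk]
    · refine ⟨m, hm, ?_⟩
      rw [List.getD_eq_default _ _ hk, hm', idm_cmp (good_evW good_gensS w).1]

/-- An attained code of order three is the code of an element of order three. -/
theorem lift_three {y : ℕ} (hy : Three y) :
    ∃ e ∈ L, e * e * e = 1 ∧ T.code e = y ∧ orderOf e = 3 := by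
  obtain ⟨hyA, hyn, hy3⟩ := hy
  obtain ⟨l, hl, hl'⟩ := T.att_word hyA
  have hcy : IsCode y := hyA.good.1
  have h3 : T.code (l * l * l) = idm := by
    rw [T.code_mul _ (L.mul_mem hl hl) _ hl, T.code_mul _ hl _ hl, hl', hy3]
  have hv : (l * l * l) * (l * l * l) = 1 := T.sq (T.ker _ (L.mul_mem (L.mul_mem hl hl) hl) h3)
  refine ⟨l * l * l * l, L.mul_mem (L.mul_mem (L.mul_mem hl hl) hl) hl, ?_, ?_, ?_⟩
  · calc l * l * l * l * (l * l * l * l) * (l * l * l * l)
        = l * l * l * (l * l * l) * (l * l * l * (l * l * l)) := by group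
      _ = 1 := by rw [hv, mul_one]
  · rw [T.code_mul _ (L.mul_mem (L.mul_mem hl hl) hl) _ hl, h3, hl', idm_cmp hcy]
  · have hc : T.code (l * l * l * l) = y := by
      rw [T.code_mul _ (L.mul_mem (L.mul_mem hl hl) hl) _ hl, h3, hl', idm_cmp hcy]
    refine orderOf_eq_prime ?_ fun e => hyn ?_
    · rw [pow_three, ← mul_assoc]
      calc l * l * l * l * (l * l * l * l) * (l * l * l * l)
          = l * l * l * (l * l * l) * (l * l * l * (l * l * l)) := by group
        _ = 1 := by rw [hv, mul_one]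
    · rw [← hc, e, T.code_one]

/-- An element of order three can be moved by `V` to commute with another one. -/
theorem commute_adjust {e b : M} (he : e ∈ L) (he3 : e * e * e = 1) (hb : b ∈ L)
    (hc : ⊚ (T.code b) (T.code e) = ⊚ (T.code e) (T.code b)) :
    ∃ w ∈ V, Commute (w * b) e := by
  obtain ⟨c, hcd⟩ : ∃ c, b * e * b⁻¹ * e⁻¹ = c := ⟨_, rfl⟩
  have heb : b * e * b⁻¹ ∈ L := L.mul_mem (L.mul_mem hb he) (L.inv_mem hb)
  have hcV : c ∈ V := by
    refine T.ker c (hcd ▸ L.mul_mem heb (L.inv_mem he)) ?_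
    rw [← hcd, T.code_mul _ heb _ (L.inv_mem he), T.code_mul _ (L.mul_mem hb he) _ (L.inv_mem hb),
      T.code_mul _ hb _ he, hc, cmp_assoc (T.code e), (T.code_inv hb).2, cmp_idm (T.good e he).1,
      (T.code_inv he).2]
  -- the conjugate `c * e` has order three
  have hd : c * e = b * e * b⁻¹ := by rw [← hcd]; group
  have h1 : c * (e * c * e⁻¹) * (e * e * c * (e * e)⁻¹) = 1 := by
    have h : (c * e) * (c * e) * (c * e) = 1 := by
      rw [hd]
      calc b * e * b⁻¹ * (b * e * b⁻¹) * (b * e * b⁻¹) = b * (e * e * e) * b⁻¹ := by group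
        _ = 1 := by rw [he3]; group
    calc c * (e * c * e⁻¹) * (e * e * c * (e * e)⁻¹)
        = (c * e) * (c * e) * (c * e) * (e * e * e)⁻¹ := by group
      _ = 1 := by rw [h, he3]; group
  have hec : e * c * e⁻¹ ∈ V := T.conj_mem he hcV
  refine ⟨e * c * e⁻¹, hec, ?_⟩
  have key : (e * c * e⁻¹) * c * (e * (e * c * e⁻¹) * e⁻¹)⁻¹ = 1 := by
    have h2 : (e * e * c * (e * e)⁻¹) = c * (e * c * e⁻¹) := by
      have := eq_inv_of_mul_eq_one_right h1
      rw [this, mul_inv_rev, T.inv_eq hec, T.inv_eq hcV, (T.comm hec hcV).eq]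
    rw [show e * (e * c * e⁻¹) * e⁻¹ = e * e * c * (e * e)⁻¹ by group, h2, (T.comm hec hcV).eq,
      mul_inv_cancel]
  show e * c * e⁻¹ * b * e = e * (e * c * e⁻¹ * b)
  calc e * c * e⁻¹ * b * e = e * c * e⁻¹ * (c * e) * b := by rw [hd]; group
    _ = (e * c * e⁻¹) * c * (e * (e * c * e⁻¹) * e⁻¹)⁻¹ * (e * (e * c * e⁻¹ * b)) := by group
    _ = e * (e * c * e⁻¹ * b) := by rw [key, one_mul]

/-- Two commuting attained codes of order three give two commuting elements of order three. -/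
theorem lift_pair {x y : ℕ} (hx : Three x) (hy : Three y) (hc : ⊚ x y = ⊚ y x) :
    ∃ a ∈ L, ∃ b ∈ L, T.code a = x ∧ T.code b = y ∧ orderOf a = 3 ∧ orderOf b = 3 ∧ Commute a b := by
  obtain ⟨a, ha, ha3, hax, hao⟩ := T.lift_three hx
  obtain ⟨b, hb, hb3, hby, -⟩ := T.lift_three hy
  obtain ⟨w, hw, hwb⟩ := T.commute_adjust ha ha3 hb (by rw [hby, hax, hc])
  obtain ⟨b', hb'⟩ : ∃ b', w * b = b' := ⟨_, rfl⟩
  rw [hb'] at hwb
  have hb'L : b' ∈ L := hb' ▸ L.mul_mem (T.le hw) hb
  have hb'c : T.code b' = y := by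
    rw [← hb', T.code_mul _ (T.le hw) _ hb, T.code_vec hw, hby, idm_cmp hy.1.good.1]
  have h3 : T.code (b' * b' * b') = idm := by
    rw [T.code_mul _ (L.mul_mem hb'L hb'L) _ hb'L, T.code_mul _ hb'L _ hb'L, hb'c, hy.2.2]
  have hv : (b' * b' * b') * (b' * b' * b') = 1 :=
    T.sq (T.ker _ (L.mul_mem (L.mul_mem hb'L hb'L) hb'L) h3)
  refine ⟨a, ha, b' * b' * b' * b', L.mul_mem (L.mul_mem (L.mul_mem hb'L hb'L) hb'L) hb'L, hax, ?_,
    hao, ?_, (((hwb.mul_left hwb).mul_left hwb).mul_left hwb).symm⟩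
  · rw [T.code_mul _ (L.mul_mem (L.mul_mem hb'L hb'L) hb'L) _ hb'L, h3, hb'c, idm_cmp hy.1.good.1]
  · refine orderOf_eq_prime ?_ fun e => hy.2.1 ?_
    · rw [pow_three, ← mul_assoc]
      calc b' * b' * b' * b' * (b' * b' * b' * b') * (b' * b' * b' * b')
          = b' * b' * b' * (b' * b' * b') * (b' * b' * b' * (b' * b' * b')) := by group
        _ = 1 := by rw [hv, mul_one]
    · rw [← hb'c]
      calc T.code b' = ⊚ (T.code (b' * b' * b')) (T.code b') := by rw [h3, idm_cmp (T.good b' hb'L).1]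
        _ = idm := by
          rw [← T.code_mul _ (L.mul_mem (L.mul_mem hb'L hb'L) hb'L) _ hb'L, e, T.code_one]

/-- The centraliser of an element of order three of `L` lies in `L`. -/
theorem centralizer_le_three {x g : M} (hx : x ∈ L) (hx3 : orderOf x = 3) (h : Commute g x) : g ∈ L :=
  (T.three x hx hx3).mem_of_commute hx h

/-- An element `j` whose code has all fixed vectors of the form `w + j w` and commutes with a code of order three
commutes with an element of order three. -/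
theorem commute_three {j : M} (hj : j ∈ L) (hj2 : j * j = 1) (hF : Full (T.code j)) {e : M} (he : e ∈ L)
    (he3 : e * e * e = 1) (hc : ⊚ (T.code j) (T.code e) = ⊚ (T.code e) (T.code j)) :
    ∃ w ∈ V, Commute (w * e * w) j := by
  obtain ⟨c, hcd⟩ : ∃ c, e * j * e⁻¹ * j⁻¹ = c := ⟨_, rfl⟩
  have hjinv : j⁻¹ = j := inv_eq_of_mul_eq_one_right hj2
  have hej : e * j * e⁻¹ ∈ L := L.mul_mem (L.mul_mem he hj) (L.inv_mem he)
  have hcV : c ∈ V := by
    refine T.ker c (hcd ▸ L.mul_mem hej (L.inv_mem hj)) ?_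
    rw [← hcd, T.code_mul _ hej _ (L.inv_mem hj), T.code_mul _ (L.mul_mem he hj) _ (L.inv_mem he),
      T.code_mul _ he _ hj, ← hc, cmp_assoc (T.code j), (T.code_inv he).2, cmp_idm (T.good j hj).1,
      (T.code_inv hj).2]
  have hd : e * j * e⁻¹ = c * j := by rw [← hcd]; group
  obtain ⟨u, hu, hue⟩ := T.vec_surj c hcV
  have hju : app (T.code j) u = u := by
    refine (T.commute_vec hj hu).1 ?_
    rw [hue]
    have h : c * j * (c * j) = 1 := by
      rw [← hd, show e * j * e⁻¹ * (e * j * e⁻¹) = e * (j * j) * e⁻¹ by group, hj2]; group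
    have h' := eq_inv_of_mul_eq_one_right h
    rw [mul_inv_rev, hjinv, T.inv_eq hcV] at h'
    exact h'.symm
  have hcoc : e * (e * c * e⁻¹) * e⁻¹ * (e * c * e⁻¹) * c = 1 := by
    have h : e * (e * (e * j * e⁻¹) * e⁻¹) * e⁻¹ = j := by
      calc e * (e * (e * j * e⁻¹) * e⁻¹) * e⁻¹ = (e * e * e) * j * (e * e * e)⁻¹ := by group
        _ = j := by rw [he3]; group
    rw [hd, show e * (e * (c * j) * e⁻¹) * e⁻¹
      = e * (e * c * e⁻¹) * e⁻¹ * (e * (e * j * e⁻¹) * e⁻¹) by group, hd,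
      show e * (c * j) * e⁻¹ = e * c * e⁻¹ * (e * j * e⁻¹) by group, hd] at h
    simpa [← mul_assoc] using h
  obtain ⟨d, hdu⟩ : ∃ d, app (T.code e) u = d := ⟨_, rfl⟩
  have hd256 : d < 256 := hdu ▸ app_lt _ _
  have hdv : T.vec d = e * c * e⁻¹ := by rw [← hdu, ← T.conj e he u hu, hue]
  have hjd : app (T.code j) d = d := by rw [← hdu, ← app_cmp, hc, app_cmp, hju]
  obtain ⟨w, hw, hwd⟩ := hF d hd256 hjd
  refine ⟨T.vec w, T.vec_mem w hw, ?_⟩
  have hwj : T.vec w * j * T.vec w = T.vec d * j := by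
    rw [← hwd, T.vec_xor w hw _ (app_lt _ _), ← T.conj j hj w hw]
    group
  have hcomm : e * (T.vec d * j) = T.vec d * j * e := by
    have hecV : e * c * e⁻¹ ∈ V := T.conj_mem he hcV
    have key : e * (e * c * e⁻¹) * e⁻¹ * c = e * c * e⁻¹ := by
      have h := hcoc
      rw [mul_assoc, (T.comm hecV hcV).eq, ← mul_assoc] at h
      rw [mul_eq_one_iff_eq_inv.1 h, T.inv_eq hecV]
    calc e * (T.vec d * j) = e * (e * c * e⁻¹) * e⁻¹ * (e * j * e⁻¹) * e := by rw [hdv]; group
      _ = e * (e * c * e⁻¹) * e⁻¹ * c * (j * e) := by rw [hd]; group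
      _ = T.vec d * j * e := by rw [key, hdv]; group
  show T.vec w * e * T.vec w * j = j * (T.vec w * e * T.vec w)
  calc T.vec w * e * T.vec w * j = T.vec w * (e * (T.vec w * j * T.vec w)) * (T.vec w)⁻¹ := by group
    _ = T.vec w * (T.vec w * j * T.vec w * e) * (T.vec w)⁻¹ := by rw [hwj, hcomm]
    _ = (T.vec w * T.vec w) * j * (T.vec w * e * (T.vec w)⁻¹) := by group
    _ = j * (T.vec w * e * T.vec w) := by rw [T.vec_sq hw, T.vec_inv hw, one_mul]

/-- A subgroup normalised by two commuting elements of order three of `L` and meeting `L` without elements of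
order three lies in `L`. -/
theorem le_of_three [Finite M] {X : Subgroup M} {a b : M} (ha : a ∈ L) (hao : orderOf a = 3) (hb : b ∈ L)
    (hbo : orderOf b = 3) (hab : Commute a b) (h1 : T.code a ≠ T.code b)
    (h2 : ⊚ (T.code a) (T.code a) ≠ T.code b) (haX : a ∈ normalizer (X : Set M))
    (hbX : b ∈ normalizer (X : Set M)) (hfree : ∀ x ∈ X, x ∈ L → x * x * x = 1 → x = 1) : X ≤ L := by
  have := Fact.mk Nat.prime_three
  have ha3 : a ^ 3 = 1 := by rw [← hao]; exact pow_orderOf_eq_one a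
  have hb3 : b ^ 3 = 1 := by rw [← hbo]; exact pow_orderOf_eq_one b
  have hX : ¬ 3 ∣ Nat.card X := by
    intro hdvd
    obtain ⟨x, hx⟩ := exists_prime_orderOf_dvd_card' 3 hdvd
    have hYle : X ⊔ zpowers a ≤ normalizer (X : Set M) := sup_le le_normalizer (zpowers_le.2 haX)
    obtain ⟨Y, hY⟩ : ∃ Y, X ⊔ zpowers a = Y := ⟨_, rfl⟩
    rw [hY] at hYle
    have haY : a ∈ Y := hY ▸ mem_sup_right (mem_zpowers a)
    have hXY : X ≤ Y := hY ▸ le_sup_left
    have hpa : IsPGroup 3 (zpowers (⟨a, haY⟩ : Y)) := IsPGroup.of_card (n := 1) (by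
      rw [Nat.card_zpowers, Subgroup.orderOf_mk, hao, pow_one])
    obtain ⟨P, hP⟩ := hpa.exists_le_sylow
    have hpx : IsPGroup 3 (zpowers (⟨x, hXY x.2⟩ : Y)) := IsPGroup.of_card (n := 1) (by
      rw [Nat.card_zpowers, Subgroup.orderOf_mk, Subgroup.orderOf_coe, hx, pow_one])
    obtain ⟨R, hR⟩ := hpx.exists_le_sylow
    obtain ⟨h, hh⟩ := MulAction.exists_smul_eq Y R P
    have hN : ((X.subgroupOf Y).subgroupOf (P : Subgroup Y)).Normal := ⟨fun n hn g =>
      (mem_normalizer_iff.1 (hYle g.1.2) n.1.1).1 hn⟩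
    have hne : (X.subgroupOf Y).subgroupOf (P : Subgroup Y) ≠ ⊥ := by
      intro hbot
      have hm : h * ⟨x, hXY x.2⟩ * h⁻¹ ∈ (P : Subgroup Y) := by
        rw [← hh]
        exact ⟨_, hR (mem_zpowers _), rfl⟩
      have h1' : (⟨_, hm⟩ : (P : Subgroup Y)) ∈ (X.subgroupOf Y).subgroupOf (P : Subgroup Y) :=
        (mem_normalizer_iff.1 (hYle h.2) x).1 x.2
      rw [hbot, mem_bot] at h1'
      have := congrArg (fun t : (P : Subgroup Y) => ((t : Y) : M)) h1'
      simp only [Subgroup.coe_mul, Subgroup.coe_inv, OneMemClass.coe_one, conj_eq_one_iff] at this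
      rw [← orderOf_eq_one_iff, Subgroup.orderOf_coe, hx] at this
      omega
    obtain ⟨Z, hZN, hZc, -, hZ⟩ := Fusion.exists_central_card_prime P.2 _ hne
    obtain ⟨⟨z, hz⟩, hz'⟩ := exists_prime_orderOf_dvd_card' 3 (dvd_of_eq hZ.symm)
    rw [Subgroup.orderOf_mk] at hz'
    have hzX : ((z : Y) : M) ∈ X := hZN hz
    have hza : Commute ((z : Y) : M) a := by
      have := mem_center_iff.1 (hZc hz) ⟨⟨a, haY⟩, hP (mem_zpowers _)⟩
      exact (congrArg (fun t : (P : Subgroup Y) => ((t : Y) : M)) this).symm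
    have hz3 : orderOf ((z : Y) : M) = 3 := by rw [Subgroup.orderOf_coe, Subgroup.orderOf_coe, hz']
    have := hfree _ hzX (T.centralizer_le_three ha hao hza)
      (by
        have h := pow_orderOf_eq_one ((z : Y) : M)
        rwa [hz3, pow_three, ← mul_assoc] at h)
    rw [this, orderOf_one] at hz3
    omega
  have hcop : Nat.Coprime 3 (Nat.card X) := Nat.prime_three.coprime_iff_not_dvd.2 hX
  have hA : (Nat.card (closure {a, b} : Subgroup M)).Coprime (Nat.card X) := by
    have hcm : IsMulCommutative (closure {a, b} : Subgroup M) := by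
      refine Subgroup.isMulCommutative_closure ?_
      rintro p (rfl | rfl) q (rfl | rfl) <;> first | exact rfl | exact hab.eq | exact hab.eq.symm
    have hp : IsPGroup 3 (closure {a, b} : Subgroup M) := by
      rintro ⟨g, hg⟩
      refine ⟨1, Subtype.ext ?_⟩
      rw [SubgroupClass.coe_pow, pow_one]
      show g ^ 3 = 1
      induction hg using Subgroup.closure_induction with
      | mem p hp => rcases hp with rfl | rfl <;> assumption
      | one => simp
      | mul p q hp hq e1 e2 =>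
        have hpq : Commute p q :=
          congrArg Subtype.val (mul_comm' (⟨p, hp⟩ : (closure {a, b} : Subgroup M)) ⟨q, hq⟩)
        rw [hpq.mul_pow, e1, e2, one_mul]
      | inv p _ e1 => rw [inv_pow, e1, inv_one]
    obtain ⟨n, hn⟩ := IsPGroup.iff_card.1 hp
    rw [hn]
    exact hcop.pow_left n
  refine Coprime.le_of_centralizers_le hab haX hbX Nat.prime_three ?_ ?_ hcop hA ?_ ?_
  · rw [ha3]; exact one_mem _
  · rw [hb3]; exact one_mem _
  · rintro g ⟨-, hg⟩
    exact T.centralizer_le_three ha hao (mem_centralizer_singleton_iff.1 hg)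
  · intro k g hg
    have hkL : a ^ k * b ∈ L := L.mul_mem (L.pow_mem ha k) hb
    have hc := mem_centralizer_singleton_iff.1 hg.2
    refine T.centralizer_le_three hkL (orderOf_eq_prime ?_ fun e => ?_) hc
    · rw [(hab.pow_left k).mul_pow, hb3, mul_one, ← pow_mul, mul_comm, pow_mul, ha3, one_pow]
    · have hk : a ^ k = a ^ (k % 3) := pow_eq_pow_mod k ha3
      rw [hk] at e
      have hb' : b = (a ^ (k % 3))⁻¹ := eq_inv_of_mul_eq_one_right e
      have h3 := Nat.mod_lt k (show 0 < 3 by norm_num)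
      interval_cases k % 3
      · rw [pow_zero, inv_one] at hb'
        rw [hb', orderOf_one] at hbo
        omega
      · rw [pow_one] at hb'
        refine h2 ?_
        rw [← T.code_mul a ha a ha, hb']
        exact congrArg T.code (eq_inv_of_mul_eq_one_left (by rw [mul_assoc, ← pow_three, ha3]))
      · refine h1 ?_
        rw [hb']
        exact congrArg T.code (eq_inv_of_mul_eq_one_left (by rw [pow_two, ← pow_three, ha3]))

end Tw

end Cfsg.Agent.U62Three.C
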