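import Cfsg.Agent.U62Three.C.Norm
import Cfsg.Agent.TwoTransfer.Basic

/-!
# The centraliser of three vectors: its Sylow 2-subgroup and the fusion of involutions
-/

set_option autoImplicit false
set_option linter.unusedSectionVars false

open Subgroup

namespace Cfsg.Agent.U62Three.C

open U62Rec K.Code Code TwoClassClosed

local notation "⊚" => U62Rec.cmp

universe u

variable {M : Type u} [Group M] {L V : Subgroup M} (T : Tw L V)

theorem mem_normalizer_centralizer [Finite M] {S : Set M} {l : M}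
    (h : ∀ s ∈ S, ∀ g ∈ centralizer S, Commute g (l * s * l⁻¹)) : l ∈ normalizer (centralizer S : Set M) := by
  have hle : (centralizer S).map (MulAut.conj l⁻¹).toMonoidHom ≤ centralizer S := by
    rintro _ ⟨g, hg, rfl⟩
    refine mem_centralizer_iff.2 fun s hs => ?_
    have := (h s hs g hg).map (MulAut.conj l⁻¹).toMonoidHom
    simp only [MulEquiv.coe_toMonoidHom, MulAut.conj_apply, inv_inv] at this
    rw [show l⁻¹ * (l * s * l⁻¹) * l = s by group] at this
    simpa using this.eq.symm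
  have heq := eq_of_le_of_card_ge hle (le_of_eq (card_map_of_injective (MulAut.conj l⁻¹).injective).symm)
  refine mem_normalizer_iff''.2 fun g => ?_
  conv_rhs => rw [← heq]
  constructor
  · intro hg
    exact ⟨g, hg, by simp⟩
  · rintro ⟨g', hg', e⟩
    simp only [MulEquiv.coe_toMonoidHom, MulAut.conj_apply, inv_inv, mul_left_cancel_iff, mul_right_cancel_iff] at e
    exact e ▸ hg'

namespace Tw

/-- The centraliser of the vectors `1`, `2`, `4`. -/
def X0 : Subgroup M := centralizer {T.vec 1, T.vec 2, T.vec 4}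

/-- The centraliser of the fixed vectors of the exchange `rr`. -/
def CF : Subgroup M := centralizer {x | ∃ u ∈ fixList rr, x = T.vec u}

include T

theorem mem_X0 {g : M} : g ∈ T.X0 ↔
    Commute g (T.vec 1) ∧ Commute g (T.vec 2) ∧ Commute g (T.vec 4) := by
  simp only [X0, mem_centralizer_iff, Set.mem_insert_iff, Set.mem_singleton_iff, forall_eq_or_imp,
    forall_eq, commute_iff_eq]
  constructor <;> rintro ⟨a, b, c⟩ <;> exact ⟨a.symm, b.symm, c.symm⟩

theorem code_X0 {g : M} (hg : g ∈ T.X0) (hgL : g ∈ L) : T.code g ∈ stab3 := by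
  obtain ⟨h1, h2, h4⟩ := T.mem_X0.1 hg
  exact mem_stab3 (T.good g hgL) ((T.commute_vec hgL (by norm_num)).1 h1)
    ((T.commute_vec hgL (by norm_num)).1 h2) ((T.commute_vec hgL (by norm_num)).1 h4)

theorem V_le_X0 : V ≤ T.X0 := fun x hx =>
  T.mem_X0.2 ⟨T.comm hx (T.vec_mem _ (by norm_num)), T.comm hx (T.vec_mem _ (by norm_num)),
    T.comm hx (T.vec_mem _ (by norm_num))⟩

theorem mem_CF {g : M} : g ∈ T.CF ↔ ∀ u ∈ fixList rr, Commute g (T.vec u) := by
  rw [CF, mem_centralizer_iff]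
  constructor
  · intro h u hu
    exact (h _ ⟨u, hu, rfl⟩).symm
  · rintro h _ ⟨u, hu, rfl⟩
    exact (h u hu).eq.symm

theorem V_le_CF : V ≤ T.CF := fun x hx => T.mem_CF.2 fun u hu =>
  T.comm hx (T.vec_mem _ (fixList_iff.1 hu).1)

theorem CF_le_X0 : T.CF ≤ T.X0 := fun g hg => by
  have h := T.mem_CF.1 hg
  obtain ⟨-, h1, h2, h4⟩ := rr_good
  exact T.mem_X0.2 ⟨h 1 (fixList_iff.2 ⟨by norm_num, h1⟩), h 2 (fixList_iff.2 ⟨by norm_num, h2⟩),
    h 4 (fixList_iff.2 ⟨by norm_num, h4⟩)⟩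

theorem code_CF_L {g : M} (hg : g ∈ T.CF) (hgL : g ∈ L) : T.code g = idm ∨ T.code g = rr :=
  stab3_fixing (T.code_X0 (T.CF_le_X0 hg) hgL) fun u hu he =>
    (T.commute_vec hgL hu).1 (T.mem_CF.1 hg u (fixList_iff.2 ⟨hu, he⟩))

theorem CF_le [Finite M] : T.CF ≤ L := by
  obtain ⟨h0, h1, -, h01, -, -, hr0, hr1, -, -, -, -, -, -, -, ⟨hn1, hn2⟩, -⟩ := frame_props
  obtain ⟨a, ha, b, hb, hax, hby, hao, hbo, hab⟩ := T.lift_pair h0 h1 h01
  have key : ∀ y ∈ L, ⊚ (T.code y) rr = ⊚ rr (T.code y) → y ∈ normalizer (T.CF : Set M) := by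
    intro y hy hyc
    refine mem_normalizer_centralizer ?_
    rintro _ ⟨u, hu, rfl⟩ g hg
    obtain ⟨hu, hur⟩ := fixList_iff.1 hu
    rw [T.conj y hy u hu]
    exact T.mem_CF.1 hg _ (fixList_iff.2 ⟨app_lt _ _, by rw [← app_cmp, ← hyc, app_cmp, hur]⟩)
  refine T.le_of_three ha hao hb hbo hab (by rw [hax, hby]; exact hn1) (by rw [hax, hby]; exact hn2)
    (key a ha (by rw [hax]; exact hr0)) (key b hb (by rw [hby]; exact hr1)) ?_
  intro x hx hxL hx3
  rcases T.code_CF_L hx hxL with e | e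
  · have hxV := T.ker x hxL e
    rwa [T.sq hxV, one_mul] at hx3
  · exfalso
    have h := congrArg T.code hx3
    rw [T.code_mul _ (L.mul_mem hxL hxL) _ hxL, T.code_mul _ hxL _ hxL, e, rr_props.1,
      idm_cmp rr_good.1.1, T.code_one] at h
    exact rr_props.2.1 h

theorem code_CF [Finite M] {g : M} (hg : g ∈ T.CF) : T.code g = idm ∨ T.code g = rr :=
  T.code_CF_L hg (T.CF_le hg)

theorem CF_isPGroup [Finite M] : IsPGroup 2 T.CF := by
  rintro ⟨g, hg⟩
  refine ⟨2, Subtype.ext ?_⟩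
  have hgL := T.CF_le hg
  have h : g * g ∈ V := by
    refine T.ker _ (L.mul_mem hgL hgL) ?_
    rcases T.code_CF hg with e | e <;> rw [T.code_mul _ hgL _ hgL, e]
    · exact idm_cmp isCode_idm
    · exact rr_props.1
  show g ^ (2 ^ 2) = 1
  rw [show (2 : ℕ) ^ 2 = 2 * 2 by norm_num, pow_mul, pow_two, pow_two, T.sq h]

theorem mem_of_notMem [Finite M] {x y : M} (hx : x ∈ T.CF) (hy : y ∈ T.CF) (hxV : x ∉ V) (hyV : y ∉ V) :
    x * y ∈ V := by
  refine T.ker _ (L.mul_mem (T.CF_le hx) (T.CF_le hy)) ?_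
  rcases T.code_CF hx with e | e
  · exact absurd (T.ker _ (T.CF_le hx) e) hxV
  rcases T.code_CF hy with e' | e'
  · exact absurd (T.ker _ (T.CF_le hy) e') hyV
  rw [T.code_mul _ (T.CF_le hx) _ (T.CF_le hy), e, e', rr_props.1]

theorem exists_inv : ∃ j ∈ L, j * j = 1 ∧ T.code j = rr := by
  obtain ⟨h1, -, h3, -, hc, hy, hsurj⟩ := rr_props
  obtain ⟨e, he, he3, hey, -⟩ := T.lift_three hy
  have hrA : ∃ l ∈ L, T.code l = rr := by
    exact T.att_word (rr_att)
  obtain ⟨l, hl, hlr⟩ := hrA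
  obtain ⟨w, hw, hwl⟩ := T.commute_adjust he he3 hl (by rw [hlr, hey, hc])
  obtain ⟨j, hj⟩ : ∃ j, w * l = j := ⟨_, rfl⟩
  rw [hj] at hwl
  have hjL : j ∈ L := hj ▸ L.mul_mem (T.le hw) hl
  have hjr : T.code j = rr := by
    rw [← hj, T.code_mul _ (T.le hw) _ hl, T.code_vec hw, hlr, idm_cmp rr_good.1.1]
  refine ⟨j, hjL, ?_, hjr⟩
  obtain ⟨u, hu, hue⟩ := T.vec_surj _ (T.ker _ (L.mul_mem hjL hjL) (by rw [T.code_mul _ hjL _ hjL, hjr, h1]))
  have hfix : app (T.code e) u = u :=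
    (T.commute_vec he hu).1 (hue.symm ▸ (hwl.mul_left hwl).symm)
  -- `1 + e` is onto, hence one-to-one
  let f : Fin 256 → Fin 256 := fun v =>
    ⟨(v : ℕ) ^^^ app (ev fpfWord) v, Nat.xor_lt_two_pow (n := 8) v.2 (app_lt _ _)⟩
  have hf : Function.Injective f := by
    refine Finite.injective_iff_surjective.2 fun c => ?_
    obtain ⟨v, hv, hvc⟩ := hsurj c c.2
    exact ⟨⟨v, hv⟩, Fin.ext hvc⟩
  have h0 := @hf ⟨u, hu⟩ ⟨0, by norm_num⟩ (Fin.ext (by
    show u ^^^ app _ u = 0 ^^^ app _ 0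
    rw [← hey, hfix, app_zero, Nat.xor_self, Nat.xor_self]))
  rw [← hue, show u = 0 from congrArg Fin.val h0, T.vec_zero]

/-- A chosen involution inducing `rr`. -/
noncomputable def jr : M := T.exists_inv.choose

theorem jr_spec : T.jr ∈ L ∧ T.jr * T.jr = 1 ∧ T.code T.jr = rr := T.exists_inv.choose_spec

theorem jr_CF : T.jr ∈ T.CF := T.mem_CF.2 fun u hu => by
  obtain ⟨hu, he⟩ := fixList_iff.1 hu
  exact (T.commute_vec T.jr_spec.1 hu).2 (by rw [T.jr_spec.2.2, he])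

theorem jr_notMem : T.jr ∉ V := fun h => rr_props.2.1 (by rw [← T.jr_spec.2.2, T.code_vec h])

/-- The elementary abelian subgroup of order 128. -/
noncomputable def EE : Subgroup M := T.CF ⊓ centralizer {T.jr}

theorem mem_EE {x : M} : x ∈ T.EE ↔ x ∈ T.CF ∧ Commute x T.jr :=
  ⟨fun h => ⟨h.1, mem_centralizer_singleton_iff.1 h.2⟩, fun h => ⟨h.1, mem_centralizer_singleton_iff.2 h.2⟩⟩

theorem EE_elem [Finite M] : Elem T.EE := fun x hx => by
  obtain ⟨hx, hc⟩ := T.mem_EE.1 hx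
  by_cases hxV : x ∈ V
  · exact T.sq hxV
  · have h := T.sq (T.mem_of_notMem T.jr_CF hx T.jr_notMem hxV)
    rwa [hc.mul_mul_mul_comm T.jr x, T.jr_spec.2.1, one_mul] at h

/-- An involution of `CF` outside `V` lies in `EE`. -/
theorem mem_EE_of_sq [Finite M] {x : M} (hx : x ∈ T.CF) (h2 : x * x = 1) (hxV : x ∉ V) : x ∈ T.EE := by
  refine T.mem_EE.2 ⟨hx, ?_⟩
  have h := T.sq (T.mem_of_notMem T.jr_CF hx T.jr_notMem hxV)
  show x * T.jr = T.jr * x
  have hj : T.jr⁻¹ = T.jr := inv_eq_of_mul_eq_one_right T.jr_spec.2.1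
  calc x * T.jr = x⁻¹ * T.jr⁻¹ := by rw [inv_eq_of_mul_eq_one_right h2, hj]
    _ = (T.jr * x)⁻¹ := (mul_inv_rev _ _).symm
    _ = T.jr * x := inv_eq_of_mul_eq_one_right h

theorem EE_card [Finite M] : 128 ≤ Nat.card T.EE := by
  classical
  obtain ⟨-, -, -, h64, -⟩ := rr_props
  have hnd : (fixList rr).Nodup := List.nodup_range.filter _
  let f : (fixList rr).toFinset × Bool → T.EE := fun p =>
    ⟨(if p.2 then T.jr else 1) * T.vec p.1, by
      obtain ⟨hu, he⟩ := fixList_iff.1 (List.mem_toFinset.1 p.1.2)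
      have hv : T.vec p.1 ∈ T.EE := T.mem_EE.2 ⟨T.V_le_CF (T.vec_mem _ hu),
        ((T.commute_vec T.jr_spec.1 hu).2 (by rw [T.jr_spec.2.2, he])).symm⟩
      refine T.EE.mul_mem ?_ hv
      by_cases hp : p.2 = true
      · rw [if_pos hp]; exact T.mem_EE.2 ⟨T.jr_CF, Commute.refl _⟩
      · rw [if_neg hp]; exact one_mem _⟩
  have hf : Function.Injective f := by
    rintro ⟨⟨u, hu⟩, p⟩ ⟨⟨v, hv⟩, q⟩ e
    have hu' := (fixList_iff.1 (List.mem_toFinset.1 hu)).1
    have hv' := (fixList_iff.1 (List.mem_toFinset.1 hv)).1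
    have e' : (if p then T.jr else 1) * T.vec u = (if q then T.jr else 1) * T.vec v := congrArg Subtype.val e
    cases p <;> cases q <;> simp only [Bool.false_eq_true, if_false, if_true, one_mul] at e'
    · simpa using T.vec_inj hu' hv' e'
    · exact absurd (eq_mul_inv_of_mul_eq e'.symm ▸ V.mul_mem (T.vec_mem u hu') (V.inv_mem (T.vec_mem v hv')))
        T.jr_notMem
    · exact absurd (eq_mul_inv_of_mul_eq e' ▸ V.mul_mem (T.vec_mem v hv') (V.inv_mem (T.vec_mem u hu')))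
        T.jr_notMem
    · simpa using T.vec_inj hu' hv' (mul_left_cancel e')
  have := Nat.card_le_card_of_injective f hf
  rw [Nat.card_prod, Nat.card_eq_finsetCard, List.toFinset_card_of_nodup hnd, h64] at this
  simpa using this

/-- An element of `CF` outside `EE` centralises only elements of `V` in `EE`. -/
theorem mem_of_commute_EE [Finite M] {x s : M} (hx : x ∈ T.CF) (hxE : x ∉ T.EE) (hs : s ∈ T.EE)
    (hc : Commute x s) : s ∈ V := by
  by_contra hsV
  refine hxE (T.mem_EE.2 ⟨hx, ?_⟩)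
  obtain ⟨hsC, hsj⟩ := T.mem_EE.1 hs
  have hv := T.mem_of_notMem hsC T.jr_CF hsV T.jr_notMem
  have he : T.jr = s⁻¹ * (s * T.jr) := by group
  rw [he]
  refine hc.inv_right.mul_right ?_
  by_cases hxV : x ∈ V
  · exact T.comm hxV hv
  · have hu := T.mem_of_notMem hsC hx hsV hxV
    have hx' : x = s⁻¹ * (s * x) := by group
    rw [hx']
    refine Commute.mul_left ?_ (T.comm hu hv)
    exact ((Commute.refl s).mul_right hsj).inv_left

/-- An elementary abelian subgroup of order 128 of `CF` outside `V` is `EE`. -/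
theorem eq_EE [Finite M] {S : Subgroup M} (hS : Elem S) (hle : S ≤ T.CF) (hcard : 128 ≤ Nat.card S)
    (hSV : ¬ S ≤ V) : S = T.EE := by
  obtain ⟨s, hs, hsV⟩ := SetLike.not_le_iff_exists.1 hSV
  have hsE := T.mem_EE_of_sq (hle hs) (hS s hs) hsV
  have hSE : S ≤ T.EE := fun x hx => by
    by_contra hxE
    exact hsV (T.mem_of_commute_EE (hle hx) hxE hsE (hS.comm hx hs))
  refine eq_of_le_of_card_ge hSE ?_
  have h1 : ∀ x ∈ T.EE, Commute x (T.vec 1) := fun x hx =>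
    (T.mem_X0.1 (T.CF_le_X0 (T.mem_EE.1 hx).1)).1
  obtain ⟨_, _, _, _, _, h128, _⟩ := T.elem_big (fun x hx => T.CF_le (T.mem_EE.1 hx).1) T.EE_elem h1
    (fun h => hsV (h hsE)) (by have := T.EE_card; omega)
  omega

theorem centralizer_EE [Finite M] {g : M} (hg : ∀ x ∈ T.EE, Commute g x) : g ∈ T.EE := by
  refine T.mem_EE.2 ⟨T.mem_CF.2 fun u hu => ?_, hg _ (T.mem_EE.2 ⟨T.jr_CF, Commute.refl _⟩)⟩
  obtain ⟨hu', he⟩ := fixList_iff.1 hu
  exact hg _ (T.mem_EE.2 ⟨T.V_le_CF (T.vec_mem _ hu'),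
    ((T.commute_vec T.jr_spec.1 hu').2 (by rw [T.jr_spec.2.2, he])).symm⟩)

/-- A conjugate of `EE` inside `CF` is `EE`. -/
theorem conj_EE [Finite M] {h : M} (hh : T.EE.map (MulAut.conj h).toMonoidHom ≤ T.CF) :
    T.EE.map (MulAut.conj h).toMonoidHom = T.EE := by
  have hc : 128 ≤ Nat.card (T.EE.map (MulAut.conj h).toMonoidHom) := by
    rw [card_map_of_injective (MulAut.conj h).injective]; exact T.EE_card
  refine T.eq_EE (T.EE_elem.map h) hh hc fun hV => ?_
  -- the conjugate of `V` would centralise `EE`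
  have hle : V.map (MulAut.conj h⁻¹).toMonoidHom ≤ T.EE := by
    rintro _ ⟨v, hv, rfl⟩
    refine T.centralizer_EE fun x hx => ?_
    have := (T.comm hv (hV ⟨x, hx, rfl⟩)).map (MulAut.conj h⁻¹).toMonoidHom
    simpa [mul_assoc] using this
  have h256 := Nat.le_of_dvd Nat.card_pos (card_dvd_of_le hle)
  rw [card_map_of_injective (MulAut.conj h⁻¹).injective, T.card_V] at h256
  obtain ⟨_, _, _, _, _, h128, _⟩ := T.elem_big (fun x hx => T.CF_le (T.mem_EE.1 hx).1) T.EE_elem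
    (fun x hx => (T.mem_X0.1 (T.CF_le_X0 (T.mem_EE.1 hx).1)).1)
    (fun h' => T.jr_notMem (h' (T.mem_EE.2 ⟨T.jr_CF, Commute.refl _⟩))) (by omega)
  omega

/-- `CF` is a Sylow 2-subgroup of `X0`. -/
theorem CF_max [Finite M] {Q : Subgroup M} (hQ : IsPGroup 2 Q) (hCQ : T.CF ≤ Q) (hQX : Q ≤ T.X0) :
    Q = T.CF := by
  have hQL : ∀ g ∈ Q, g ∈ L → g ∈ T.CF := by
    intro g hg hgL
    have cube : ∀ y ∈ Q, y ∈ L → ⊚ (⊚ (T.code y) (T.code y)) (T.code y) = idm → y ∈ V := by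
      intro y hy hyL h3
      have h3' : y * y * y ∈ V := T.ker _ (L.mul_mem (L.mul_mem hyL hyL) hyL) (by
        rw [T.code_mul _ (L.mul_mem hyL hyL) _ hyL, T.code_mul _ hyL _ hyL, h3])
      obtain ⟨k, hk⟩ := hQ ⟨y, hy⟩
      have hk' : y ^ 2 ^ k = 1 := by simpa using congrArg Subtype.val hk
      have hd : orderOf y ∣ 2 ^ k := orderOf_dvd_of_pow_eq_one hk'
      have hcop : (3 : ℕ).Coprime (orderOf y) :=
        ((show (3 : ℕ).Coprime 2 by norm_num).pow_right k).coprime_dvd_right hd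
      obtain ⟨m, hm⟩ := exists_pow_eq_self_of_coprime hcop
      rw [← hm]
      exact V.pow_mem (by rwa [pow_three, ← mul_assoc]) m
    rcases stab3_cases (T.code_X0 (hQX hg) hgL) with h3 | h3
    · exact T.V_le_CF (cube g hg hgL h3)
    · have hgj : g * T.jr ∈ V := cube _ (Q.mul_mem hg (hCQ T.jr_CF)) (L.mul_mem hgL T.jr_spec.1) (by
        rw [T.code_mul _ hgL _ T.jr_spec.1, T.jr_spec.2.2]; exact h3)
      have := T.CF.mul_mem (T.V_le_CF hgj) (T.CF.inv_mem T.jr_CF)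
      rwa [mul_inv_cancel_right] at this
  refine (Embedded.eq_of_normalizer_inf_le hQ hCQ ?_).symm
  rintro g ⟨hgQ, hgN⟩
  refine hQL g hgQ (T.norm g fun x hx => ?_)
  have hle : V.map (MulAut.conj g).toMonoidHom ≤ T.CF := by
    rintro _ ⟨v, hv, rfl⟩
    exact (mem_normalizer_iff.1 hgN v).1 (T.V_le_CF hv)
  have heq := T.elem_unique (hle.trans T.CF_le) (T.elem_V.map g)
    (fun y hy => (T.mem_X0.1 (T.CF_le_X0 (hle hy))).1)
    (by rw [card_map_of_injective (MulAut.conj g).injective, T.card_V])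
  exact heq ▸ ⟨x, hx, rfl⟩

theorem conj_le_CF [Finite M] {Q : Subgroup M} (hQ : IsPGroup 2 Q) (hQX : Q ≤ T.X0) :
    ∃ h ∈ T.X0, Q.map (MulAut.conj h).toMonoidHom ≤ T.CF := by
  obtain ⟨P, hP⟩ := (T.CF_isPGroup.of_equiv (subgroupOfEquivOfLe T.CF_le_X0).symm).exists_le_sylow
  have hle : T.CF ≤ (P : Subgroup T.X0).map T.X0.subtype := fun x hx =>
    ⟨⟨x, T.CF_le_X0 hx⟩, hP (mem_subgroupOf.2 hx), rfl⟩
  have heq := T.CF_max (P.2.map _) hle (map_subtype_le _)
  obtain ⟨h, hh, h'⟩ := Embedded.exists_conj_le_sylow P hQX hQ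
  exact ⟨h, hh, heq ▸ h'⟩

end Tw

end Cfsg.Agent.U62Three.C
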