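import Cfsg.Agent.U62Three.C.Sylow

/-!
# The centraliser of three vectors lies in `L`
-/

set_option autoImplicit false
set_option linter.unusedSectionVars false
set_option maxRecDepth 20000

open Subgroup

namespace Cfsg.Agent.U62Three.C

open U62Rec K.Code Code TwoClassClosed

local notation "⊚" => U62Rec.cmp

universe u

variable {M : Type u} [Group M] {L V : Subgroup M}

/-- Transfer to the quotient of order two of a Sylow subgroup: an index two subgroup missing `x` and containing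
the involutions whose conjugates in `S` lie in `W`. -/
theorem exists_index_two_containing {X : Type u} [Group X] [Finite X] (S : Sylow 2 X) (W : Subgroup X)
    (hW : W.relIndex S = 2) {x : X} (hx : x ∈ S) (hx2 : x * x = 1)
    (hfix : ∀ g : X, g⁻¹ * x * g ∈ S → g⁻¹ * x * g ∉ W) :
    ∃ N : Subgroup X, N.index = 2 ∧ x ∉ N ∧
      ∀ y : X, y * y = 1 → (∀ g : X, g⁻¹ * y * g ∈ S → g⁻¹ * y * g ∈ W) → y ∈ N := by
  classical
  have hW' : (W.subgroupOf (S : Subgroup X)).index = 2 := hW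
  set θ := TwoTransfer.sgn (W.subgroupOf (S : Subgroup X)) hW' with hθ
  set φ := MonoidHom.transfer θ with hφ
  have two_cases : ∀ y : X, y * y = 1 → ∀ q : X ⧸ (S : Subgroup X),
      Function.minimalPeriod (y • ·) q = 1 ∨ Function.minimalPeriod (y • ·) q = 2 := by
    intro y hy q
    have hd : Function.minimalPeriod (y • ·) q ∣ 2 := by
      apply Function.IsPeriodicPt.minimalPeriod_dvd
      simp only [Function.IsPeriodicPt, Function.IsFixedPt, smul_iterate, pow_two, hy, one_smul]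
    exact (Nat.dvd_prime Nat.prime_two).1 hd
  let : Fintype (Quotient (MulAction.orbitRel (zpowers x) (X ⧸ (S : Subgroup X)))) := Fintype.ofFinite _
  have hval : ∀ q : Quotient (MulAction.orbitRel (zpowers x) (X ⧸ (S : Subgroup X))),
      θ ⟨_, QuotientGroup.out_conj_pow_minimalPeriod_mem (S : Subgroup X) x q.out⟩ =
        Multiplicative.ofAdd ((Function.minimalPeriod (x • ·) q.out : ℕ) : ZMod 2) := by
    intro q
    have hmem := QuotientGroup.out_conj_pow_minimalPeriod_mem (S : Subgroup X) x q.out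
    rcases two_cases x hx2 q.out with hk | hk
    · rw [hθ, TwoTransfer.sgn_apply_of_notMem]
      · simp [hk]
      · simp only [hk, pow_one, Subgroup.mem_subgroupOf] at hmem ⊢
        exact hfix _ hmem
    · rw [hθ, TwoTransfer.sgn_apply_of_mem]
      · rw [hk]; rfl
      · simp [hk, pow_two, hx2, Subgroup.mem_subgroupOf]
  have hsum : φ x = Multiplicative.ofAdd (((S : Subgroup X).index : ℕ) : ZMod 2) := by
    rw [hφ, MonoidHom.transfer_eq_prod_quotient_orbitRel_zpowers_quot]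
    simp only [hval]
    rw [← ofAdd_sum, ← Nat.cast_sum, ← Subgroup.index_eq_sum_minimalPeriod]
  rw [(ZMod.natCast_eq_one_iff_odd).2 (Nat.odd_iff.2 (Nat.two_dvd_ne_zero.1 S.not_dvd_index))] at hsum
  refine ⟨φ.ker, ?_, by simp [MonoidHom.mem_ker, hsum], fun y hy hyW => ?_⟩
  · rw [Subgroup.index_ker]
    have : φ.range = ⊤ := by
      rw [eq_top_iff]
      rintro a -
      have key : a = 1 ∨ a = Multiplicative.ofAdd 1 := by revert a; decide
      rcases key with rfl | rfl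
      · exact one_mem _
      · exact ⟨x, hsum⟩
    rw [this, Subgroup.card_top]
    simp
  · let : Fintype (Quotient (MulAction.orbitRel (zpowers y) (X ⧸ (S : Subgroup X)))) := Fintype.ofFinite _
    rw [MonoidHom.mem_ker, hφ, MonoidHom.transfer_eq_prod_quotient_orbitRel_zpowers_quot]
    refine Finset.prod_eq_one fun q _ => ?_
    rw [hθ, TwoTransfer.sgn_apply_of_mem]
    have hmem := QuotientGroup.out_conj_pow_minimalPeriod_mem (S : Subgroup X) y q.out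
    rcases two_cases y hy q.out with hk | hk
    · simp only [hk, pow_one, Subgroup.mem_subgroupOf] at hmem ⊢
      exact hyW _ hmem
    · simp [hk, pow_two, hy, Subgroup.mem_subgroupOf]

namespace Tw

variable (T : Tw L V)

include T

theorem conj_EE_mem {h x : M} (hh : T.EE.map (MulAut.conj h).toMonoidHom = T.EE) (hx : x ∈ T.EE) :
    h * x * h⁻¹ ∈ T.EE := hh ▸ ⟨x, hx, rfl⟩

theorem conj_EE_inv {h x : M} (hh : T.EE.map (MulAut.conj h).toMonoidHom = T.EE) (hx : x ∈ T.EE) :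
    h⁻¹ * x * h ∈ T.EE := by
  obtain ⟨y, hy, e⟩ := hh.symm ▸ hx
  rw [← e]
  simpa [mul_assoc] using hy

theorem EE_le_X0 : T.EE ≤ T.X0 := fun _ hx => T.CF_le_X0 (T.mem_EE.1 hx).1

/-- The vectors fixed by `jr` are those in `EE`. -/
theorem vec_mem_EE {u : ℕ} (hu : u < 256) : T.vec u ∈ T.EE ↔ app rr u = u := by
  rw [T.mem_EE]
  refine ⟨fun h => ?_, fun h => ⟨T.V_le_CF (T.vec_mem u hu), ?_⟩⟩
  · rw [← T.jr_spec.2.2]
    exact (T.commute_vec T.jr_spec.1 hu).1 h.2.symm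
  · exact ((T.commute_vec T.jr_spec.1 hu).2 (by rw [T.jr_spec.2.2, h])).symm

theorem exists_comm_two [Finite M] {g : M} (hg : T.EE.map (MulAut.conj g).toMonoidHom = T.EE) :
    ∃ u ∈ V, u ∉ T.EE ∧ (u * T.jr * u * T.jr) ∈ T.EE ∧ (u * T.jr * u * T.jr) ∈ V ∧
      g⁻¹ * (u * T.jr * u * T.jr) * g ∈ V := by
  obtain ⟨hjL, hj2, hjc⟩ := T.jr_spec
  have hcm : ∀ w < 256, T.vec w * T.jr * T.vec w * T.jr = T.vec (w ^^^ app rr w) := fun w hw => by
    rw [T.vec_xor w hw _ (app_lt _ _), ← hjc, ← T.conj _ hjL w hw, inv_eq_of_mul_eq_one_right hj2]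
    group
  have hfix : ∀ w < 256, app rr (w ^^^ app rr w) = w ^^^ app rr w := fun w hw => by
    rw [app_xor, ← app_cmp, rr_props.1, app_idm hw, Nat.xor_comm]
  have hE : ∀ w < 256, T.vec w * T.jr * T.vec w * T.jr ∈ T.EE := fun w hw => by
    rw [hcm w hw]
    exact (T.vec_mem_EE (Nat.xor_lt_two_pow (n := 8) hw (app_lt _ _))).2 (hfix w hw)
  have hV : ∀ w < 256, T.vec w * T.jr * T.vec w * T.jr ∈ V := fun w hw => by
    rw [hcm w hw]
    exact T.vec_mem _ (Nat.xor_lt_two_pow (n := 8) hw (app_lt _ _))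
  have hnE : ∀ w < 256, app rr w ≠ w → T.vec w ∉ T.EE := fun w hw h hE' => h ((T.vec_mem_EE hw).1 hE')
  obtain ⟨ha, hb, hab⟩ : app rr 16 ≠ 16 ∧ app rr 32 ≠ 32 ∧ app rr (16 ^^^ 32) ≠ (16 ^^^ 32) := by decide +kernel
  by_cases h1 : g⁻¹ * (T.vec 16 * T.jr * T.vec 16 * T.jr) * g ∈ V
  · exact ⟨_, T.vec_mem 16 (by norm_num), hnE 16 (by norm_num) ha, hE 16 (by norm_num), hV 16 (by norm_num), h1⟩
  by_cases h2 : g⁻¹ * (T.vec 32 * T.jr * T.vec 32 * T.jr) * g ∈ V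
  · exact ⟨_, T.vec_mem 32 (by norm_num), hnE 32 (by norm_num) hb, hE 32 (by norm_num), hV 32 (by norm_num), h2⟩
  refine ⟨_, T.vec_mem (16 ^^^ 32) (by decide), hnE _ (by decide) hab, hE _ (by decide), hV _ (by decide), ?_⟩
  have hp := T.mem_of_notMem (T.mem_EE.1 (T.conj_EE_inv hg (hE 16 (by norm_num)))).1
    (T.mem_EE.1 (T.conj_EE_inv hg (hE 32 (by norm_num)))).1 h1 h2
  rw [hcm (16 ^^^ 32) (by decide), app_xor]
  rw [hcm 16 (by norm_num), hcm 32 (by norm_num),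
    show g⁻¹ * T.vec (16 ^^^ app rr 16) * g * (g⁻¹ * T.vec (32 ^^^ app rr 32) * g)
      = g⁻¹ * (T.vec (16 ^^^ app rr 16) * T.vec (32 ^^^ app rr 32)) * g by group,
    ← T.vec_xor _ (Nat.xor_lt_two_pow (n := 8) (by norm_num) (app_lt _ _)) _
      (Nat.xor_lt_two_pow (n := 8) (by norm_num) (app_lt _ _))] at hp
  rwa [show (16 ^^^ 32 ^^^ (app rr 16 ^^^ app rr 32)) = (16 ^^^ app rr 16) ^^^ (32 ^^^ app rr 32) by ac_rfl]

/-- The action of `u` on `EE`. -/
theorem act_EE [Finite M] {u x : M} (hu : u ∈ V) (hx : x ∈ T.EE) :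
    u * x * u⁻¹ = x ∨ u * x * u⁻¹ = x * (u * T.jr * u * T.jr) := by
  obtain ⟨hxC, hxj⟩ := T.mem_EE.1 hx
  by_cases hxV : x ∈ V
  · left
    rw [(T.comm hu hxV).eq, mul_inv_cancel_right]
  · right
    have hv := T.mem_of_notMem hxC T.jr_CF hxV T.jr_notMem
    have hj : T.jr⁻¹ = T.jr := inv_eq_of_mul_eq_one_right T.jr_spec.2.1
    calc u * x * u⁻¹ = u * (x * T.jr) * T.jr⁻¹ * u := by rw [T.inv_eq hu]; group
      _ = (x * T.jr) * (u * T.jr * u * (T.jr * T.jr⁻¹)) := by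
        rw [(T.comm hu hv).eq, mul_inv_cancel, hj, mul_one]
        simp only [mul_assoc]
      _ = x * (u * T.jr * u * T.jr) := by
        rw [show x * T.jr * (u * T.jr * u * (T.jr * T.jr⁻¹))
          = x * (T.jr * (u * T.jr * u * T.jr) * T.jr⁻¹) by group]
        have hc : Commute T.jr (u * T.jr * u * T.jr) := by
          obtain ⟨a, ha, rfl⟩ := T.vec_surj u hu
          refine ((T.mem_EE.1 (?_ : T.vec a * T.jr * T.vec a * T.jr ∈ T.EE)).2).symm
          have he : T.vec a * T.jr * T.vec a * T.jr = T.vec (a ^^^ app rr a) := by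
            rw [T.vec_xor a ha _ (app_lt _ _), ← T.jr_spec.2.2, ← T.conj _ T.jr_spec.1 a ha, hj]
            group
          rw [he]
          refine (T.vec_mem_EE (Nat.xor_lt_two_pow (n := 8) ha (app_lt _ _))).2 ?_
          rw [app_xor, ← app_cmp, rr_props.1, app_idm ha, Nat.xor_comm]
        rw [hc.eq, mul_inv_cancel_right]

/-- An element of `X0` normalising `EE` keeps `EE ⊓ V`. -/
theorem EE_inf_invariant [Finite M] {g : M} (hgX : g ∈ T.X0)
    (hg : T.EE.map (MulAut.conj g).toMonoidHom = T.EE) {x : M} (hx : x ∈ T.EE) (hxV : x ∈ V) :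
    g * x * g⁻¹ ∈ V := by
  by_contra hgx
  have hg' : T.EE.map (MulAut.conj g⁻¹).toMonoidHom = T.EE := by
    refine T.conj_EE fun y hy => ?_
    obtain ⟨z, hz, rfl⟩ := hy
    have := (T.mem_EE.1 (T.conj_EE_inv hg hz)).1
    simpa using this
  obtain ⟨u, hu, huE, hcE, hcV, hcg⟩ := T.exists_comm_two hg
  obtain ⟨w, hw, hwE, hdE, hdV, hdg⟩ := T.exists_comm_two hg'
  rw [inv_inv] at hdg
  obtain ⟨c, hc⟩ : ∃ c, u * T.jr * u * T.jr = c := ⟨_, rfl⟩
  obtain ⟨d, hd⟩ : ∃ d, w * T.jr * w * T.jr = d := ⟨_, rfl⟩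
  rw [hc] at hcE hcV hcg
  rw [hd] at hdE hdV hdg
  obtain ⟨v, hv⟩ : ∃ v, g * w * g⁻¹ = v := ⟨_, rfl⟩
  obtain ⟨c', hc'⟩ : ∃ c', g * d * g⁻¹ = c' := ⟨_, rfl⟩
  have hc'E : c' ∈ T.EE := hc' ▸ T.conj_EE_mem hg hdE
  rw [hc'] at hdg
  have actv : ∀ y ∈ T.EE, v * y * v⁻¹ = y ∨ v * y * v⁻¹ = y * c' := by
    intro y hy
    have e0 : v * y * v⁻¹ = g * (w * (g⁻¹ * y * g) * w⁻¹) * g⁻¹ := by rw [← hv]; group
    rcases T.act_EE hw (T.conj_EE_inv hg hy) with e | e
    · left; rw [e0, e]; group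
    · right; rw [e0, e, hd, ← hc']; group
  have actu : ∀ y ∈ T.EE, u * y * u⁻¹ = y ∨ u * y * u⁻¹ = y * c := fun y hy => by
    rw [← hc]; exact T.act_EE hu hy
  have huc' : u * c' * u⁻¹ = c' := by rw [(T.comm hu hdg).eq, mul_inv_cancel_right]
  have hvc : v * c * v⁻¹ = c := by
    rw [← hv, show g * w * g⁻¹ * c * (g * w * g⁻¹)⁻¹ = g * (w * (g⁻¹ * c * g) * w⁻¹) * g⁻¹ by group,
      (T.comm hw hcg).eq, mul_inv_cancel_right]
    group
  have comm : ∀ y ∈ T.EE, (v⁻¹ * u⁻¹ * v * u) * y * (v⁻¹ * u⁻¹ * v * u)⁻¹ = y := by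
    intro y hy
    have e : u * (v * y * v⁻¹) * u⁻¹ = v * (u * y * u⁻¹) * v⁻¹ := by
      rcases actu y hy with eu | eu <;> rcases actv y hy with ev | ev <;> rw [eu, ev]
      · exact eu
      · rw [conj_mul.symm, eu, huc']
      · rw [← conj_mul, ev, hvc, eu]
      · rw [← conj_mul, ← conj_mul, eu, ev, huc', hvc, mul_assoc, (T.EE_elem.comm hcE hc'E).eq, ← mul_assoc]
    calc (v⁻¹ * u⁻¹ * v * u) * y * (v⁻¹ * u⁻¹ * v * u)⁻¹
        = v⁻¹ * u⁻¹ * (v * (u * y * u⁻¹) * v⁻¹) * u * v := by group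
      _ = y := by rw [← e]; group
  have hk : v⁻¹ * u⁻¹ * v * u ∈ T.EE := T.centralizer_EE fun y hy => mul_inv_eq_iff_eq_mul.1 (comm y hy)
  have norm_of : ∀ {p : M} {q : M}, q ∈ T.EE → (∀ y ∈ T.EE, p * y * p⁻¹ = y ∨ p * y * p⁻¹ = y * q) →
      p ∈ normalizer (T.EE : Set M) := by
    intro p q hq h
    refine mem_normalizer_iff''.2 fun y => ?_
    have hle : T.EE.map (MulAut.conj p).toMonoidHom ≤ T.EE := by
      rintro _ ⟨z, hz, rfl⟩
      rcases h z hz with e | e <;> simp only [MulEquiv.coe_toMonoidHom, MulAut.conj_apply, e]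
      · exact hz
      · exact T.EE.mul_mem hz hq
    have heq := eq_of_le_of_card_ge hle (le_of_eq (card_map_of_injective (MulAut.conj p).injective).symm)
    exact ⟨fun hy => T.conj_EE_inv heq hy, fun hy => by
      have := T.conj_EE_mem heq hy
      simpa [mul_assoc] using this⟩
  have hun := norm_of hcE actu
  have hvn := norm_of hc'E actv
  have hu2 : u * u = 1 := T.sq hu
  have hv2 : v * v = 1 := by rw [← hv, conj_mul, T.sq hw]; group
  -- the 2-group generated by `EE`, `u`, `v`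
  have hp : ∀ {p : M}, p * p = 1 → IsPGroup 2 (zpowers p) := fun {p} h => by
    rintro ⟨y, hy⟩
    obtain ⟨n, rfl⟩ := mem_zpowers_iff.1 hy
    refine ⟨1, Subtype.ext ?_⟩
    show (p ^ n) ^ (2 ^ 1) = 1
    rw [pow_one, ← zpow_natCast, ← zpow_mul, mul_comm n, zpow_mul, zpow_natCast, pow_two, h, one_zpow]
  have hEp : IsPGroup 2 T.EE := T.CF_isPGroup.to_le fun _ h => (T.mem_EE.1 h).1
  obtain ⟨R₁, hR₁⟩ : ∃ R₁, T.EE ⊔ zpowers u = R₁ := ⟨_, rfl⟩
  have hR₁p : IsPGroup 2 R₁ := hR₁ ▸ IsPGroup.to_sup_of_normal_left' hEp (hp hu2) (zpowers_le.2 hun)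
  have hER : T.EE ≤ R₁ := hR₁ ▸ le_sup_left
  have huR : u ∈ R₁ := hR₁ ▸ mem_sup_right (mem_zpowers u)
  have hvR : v ∈ normalizer (R₁ : Set M) := by
    have hmem : ∀ y ∈ R₁, v * y * v⁻¹ ∈ R₁ := by
      intro y hy
      have hle : R₁ ≤ R₁.comap (MulAut.conj v).toMonoidHom := by
        conv_lhs => rw [← hR₁]
        refine sup_le (fun z hz => hER ((mem_normalizer_iff.1 hvn z).1 hz)) (zpowers_le.2 ?_)
        show v * u * v⁻¹ ∈ R₁
        have e : v * u * v⁻¹ = u * (v⁻¹ * u⁻¹ * v * u)⁻¹ := by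
          rw [inv_eq_of_mul_eq_one_right hv2, inv_eq_of_mul_eq_one_right hu2, mul_inv_rev, mul_inv_rev, mul_inv_rev,
            inv_eq_of_mul_eq_one_right hv2, inv_eq_of_mul_eq_one_right hu2]
          calc v * u * v = u * u * v * u * v := by rw [hu2, one_mul]
            _ = u * (u * (v * (u * v))) := by group
        rw [e]
        exact R₁.mul_mem huR (hER (T.EE.inv_mem hk))
      exact hle hy
    refine mem_normalizer_iff.2 fun y => ⟨hmem y, fun hy => ?_⟩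
    have := hmem _ hy
    rwa [show v * (v * y * v⁻¹) * v⁻¹ = (v * v) * y * (v * v)⁻¹ by group, hv2, inv_one, one_mul, mul_one] at this
  have hRp := IsPGroup.to_sup_of_normal_left' hR₁p (hp hv2) (zpowers_le.2 hvR)
  have hwX : w ∈ T.X0 := T.V_le_X0 hw
  have hRX : R₁ ⊔ zpowers v ≤ T.X0 :=
    sup_le (hR₁ ▸ sup_le T.EE_le_X0 (zpowers_le.2 (T.V_le_X0 hu)))
      (zpowers_le.2 (hv ▸ T.X0.mul_mem (T.X0.mul_mem hgX hwX) (T.X0.inv_mem hgX)))
  obtain ⟨h, -, hh⟩ := T.conj_le_CF hRp hRX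
  have hmemh : ∀ {y : M}, y ∈ R₁ ⊔ zpowers v → h * y * h⁻¹ ∈ T.CF := fun {y} hy => hh ⟨y, hy, rfl⟩
  have hEh : T.EE.map (MulAut.conj h).toMonoidHom = T.EE := by
    refine T.conj_EE ?_
    rintro _ ⟨y, hy, rfl⟩
    exact hmemh (mem_sup_left (hER hy))
  have hvE : v ∉ T.EE := fun h' => hwE (by
    have := T.conj_EE_inv hg h'
    rwa [← hv, show g⁻¹ * (g * w * g⁻¹) * g = w by group] at this)
  have key : ∀ p ∈ R₁ ⊔ zpowers v, p ∉ T.EE → ∀ y ∈ T.EE, Commute p y → h * y * h⁻¹ ∈ V := by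
    intro p hp' hpE y hy hpy
    refine T.mem_of_commute_EE (hmemh hp') (fun h' => hpE ?_) (T.conj_EE_mem hEh hy)
      (by simpa using hpy.map (MulAut.conj h).toMonoidHom)
    have := T.conj_EE_inv hEh h'
    rwa [show h⁻¹ * (h * p * h⁻¹) * h = p by group] at this
  -- `h` maps both hyperplanes into `V`
  have h1 : ∀ y ∈ T.EE ⊓ V, h * y * h⁻¹ ∈ V := fun y hy =>
    key u (mem_sup_left huR) huE y hy.1 (T.comm hu hy.2)
  have h2 : h * (g * x * g⁻¹) * h⁻¹ ∈ V :=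
    key v (mem_sup_right (mem_zpowers v)) hvE _ (T.conj_EE_mem hg hx)
      (by simpa [← hv] using (T.comm hw hxV).map (MulAut.conj g).toMonoidHom)
  have hle : (T.EE ⊓ V).map (MulAut.conj h).toMonoidHom ≤ T.EE ⊓ V := by
    rintro _ ⟨y, hy, rfl⟩
    exact ⟨T.conj_EE_mem hEh hy.1, h1 y hy⟩
  have heq := eq_of_le_of_card_ge hle (le_of_eq (card_map_of_injective (MulAut.conj h).injective).symm)
  obtain ⟨y, hy, e⟩ := heq.symm.le (⟨T.conj_EE_mem hEh (T.conj_EE_mem hg hx), h2⟩ :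
    h * (g * x * g⁻¹) * h⁻¹ ∈ T.EE ⊓ V)
  exact hgx ((MulAut.conj h).injective e ▸ hy.2)

/-- Involutions of `CF` outside `V` are not conjugate in `X0` into `V`. -/
theorem not_conj_into [Finite M] {s : M} (hs : s ∈ T.CF) (hs2 : s * s = 1) (hsV : s ∉ V) {g : M}
    (hg : g ∈ T.X0) : g * s * g⁻¹ ∉ V := by
  intro hgs
  have hsE := T.mem_EE_of_sq hs hs2 hsV
  obtain ⟨C, hC⟩ : ∃ C, T.X0 ⊓ centralizer {s} = C := ⟨_, rfl⟩
  have hEC : T.EE ≤ C := fun y hy => hC ▸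
    ⟨T.EE_le_X0 hy, mem_centralizer_singleton_iff.2 (T.EE_elem.comm hy hsE).eq⟩
  have hEp : IsPGroup 2 T.EE := T.CF_isPGroup.to_le fun _ h => (T.mem_EE.1 h).1
  obtain ⟨P, hP⟩ := (hEp.of_equiv (subgroupOfEquivOfLe hEC).symm).exists_le_sylow
  obtain ⟨P', hP'⟩ : ∃ P', (P : Subgroup C).map C.subtype = P' := ⟨_, rfl⟩
  have hPp : IsPGroup 2 P' := hP' ▸ P.2.map _
  have hEP : T.EE ≤ P' := fun y hy => hP' ▸ ⟨⟨y, hEC hy⟩, hP (mem_subgroupOf.2 hy), rfl⟩
  have hPC : P' ≤ C := hP' ▸ map_subtype_le _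
  have hPeq : T.EE = P' := by
    refine Embedded.eq_of_normalizer_inf_le hPp hEP ?_
    rintro q ⟨hq, hqN⟩
    by_contra hqE
    obtain ⟨h, hhX, hh⟩ := T.conj_le_CF hPp (fun y hy => (hC.ge (hPC hy)).1)
    have hEh : T.EE.map (MulAut.conj h).toMonoidHom = T.EE :=
      T.conj_EE ((map_mono hEP).trans hh)
    have hqs : Commute q s := mem_centralizer_singleton_iff.1 (hC.ge (hPC hq)).2
    have hsV' : h * s * h⁻¹ ∈ V := by
      refine T.mem_of_commute_EE (hh ⟨q, hq, rfl⟩) (fun h' => hqE ?_) (T.conj_EE_mem hEh hsE)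
        (by simpa using hqs.map (MulAut.conj h).toMonoidHom)
      have := T.conj_EE_inv hEh h'
      simp only [MulEquiv.coe_toMonoidHom, MulAut.conj_apply] at this
      rwa [show h⁻¹ * (h * q * h⁻¹) * h = q by group] at this
    -- `h⁻¹` brings `s` back
    have hEh' : T.EE.map (MulAut.conj h⁻¹).toMonoidHom = T.EE := by
      refine T.conj_EE fun y hy => ?_
      obtain ⟨z, hz, rfl⟩ := hy
      simpa using (T.mem_EE.1 (T.conj_EE_inv hEh hz)).1
    have := T.EE_inf_invariant (T.X0.inv_mem hhX) hEh' (T.conj_EE_mem hEh hsE) hsV'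
    rw [show h⁻¹ * (h * s * h⁻¹) * (h⁻¹)⁻¹ = s by group] at this
    exact hsV this
  -- the conjugate of `V` centralising `s`
  have hVC : V.map (MulAut.conj g⁻¹).toMonoidHom ≤ C := by
    rintro _ ⟨y, hy, rfl⟩
    refine hC ▸ ⟨by simpa using T.X0.mul_mem (T.X0.mul_mem (T.X0.inv_mem hg) (T.V_le_X0 hy)) hg,
      mem_centralizer_singleton_iff.2 ?_⟩
    have := (T.comm hy hgs).map (MulAut.conj g⁻¹).toMonoidHom
    simpa [mul_assoc] using this.eq
  have hVp : IsPGroup 2 (V.map (MulAut.conj g⁻¹).toMonoidHom) :=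
    IsPGroup.map (fun y => ⟨1, Subtype.ext (by simpa [pow_two] using T.sq y.2)⟩) _
  obtain ⟨h, -, hh⟩ := Embedded.exists_conj_le_sylow P hVC hVp
  rw [hP', ← hPeq] at hh
  have h256 := Nat.le_of_dvd Nat.card_pos (card_dvd_of_le hh)
  rw [card_map_of_injective (MulAut.conj h).injective, card_map_of_injective (MulAut.conj g⁻¹).injective,
    T.card_V] at h256
  obtain ⟨_, _, _, _, _, h128, _⟩ := T.elem_big (fun y hy => T.CF_le (T.mem_EE.1 hy).1) T.EE_elem
    (fun y hy => (T.mem_X0.1 (T.EE_le_X0 hy)).1)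
    (fun h' => hsV (h' hsE)) (by omega)
  omega

/-- The centraliser of `1`, `2`, `4` lies in `L`. -/
theorem X0_le [Finite M] : T.X0 ≤ L := by
  classical
  have := Fact.mk Nat.prime_two
  obtain ⟨hjL, hj2, hjc⟩ := T.jr_spec
  -- transfer to the quotient of order two of `CF`
  obtain ⟨S, hS⟩ := (T.CF_isPGroup.of_equiv (subgroupOfEquivOfLe T.CF_le_X0).symm).exists_le_sylow
  have hSeq : (S : Subgroup T.X0) = T.CF.subgroupOf T.X0 := by
    refine le_antisymm (fun y hy => mem_subgroupOf.2 ?_) hS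
    exact (T.CF_max (S.2.map _) (fun z hz => ⟨⟨z, T.CF_le_X0 hz⟩, hS (mem_subgroupOf.2 hz), rfl⟩)
      (map_subtype_le _)).le ⟨y, hy, rfl⟩
  obtain ⟨W, hW⟩ : ∃ W, V.subgroupOf T.X0 = W := ⟨_, rfl⟩
  have hindex : (W.subgroupOf (S : Subgroup T.X0)).index = 2 := by
    rw [index_eq_two_iff]
    refine ⟨⟨⟨T.jr, T.CF_le_X0 T.jr_CF⟩, hSeq ▸ mem_subgroupOf.2 T.jr_CF⟩, fun b => ?_⟩
    have hb : ((b : T.X0) : M) ∈ T.CF := mem_subgroupOf.1 (hSeq ▸ b.2)
    simp only [mem_subgroupOf, ← hW, Subgroup.coe_mul]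
    by_cases h : ((b : T.X0) : M) ∈ V
    · refine Or.inr ⟨h, fun h' => T.jr_notMem ?_⟩
      have := V.mul_mem (V.inv_mem h) h'
      rwa [inv_mul_cancel_left] at this
    · exact Or.inl ⟨T.mem_of_notMem hb T.jr_CF h T.jr_notMem, h⟩
  obtain ⟨N, hN2, hjN, hinN⟩ := exists_index_two_containing S W hindex (x := ⟨T.jr, T.CF_le_X0 T.jr_CF⟩)
    (hSeq.ge (mem_subgroupOf.2 T.jr_CF)) (Subtype.ext hj2)
    (fun g _ hgW => by
      rw [← hW, mem_subgroupOf] at hgW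
      exact T.not_conj_into T.jr_CF hj2 T.jr_notMem (T.X0.inv_mem g.2) (by simpa using hgW))
  -- the vectors lie in `N`
  have hVN : ∀ u (hu : u ∈ V), (⟨u, T.V_le_X0 hu⟩ : T.X0) ∈ N := fun u hu =>
    hinN _ (Subtype.ext (T.sq hu)) fun g hg => by
      replace hg := mem_subgroupOf.1 (hSeq.le hg)
      rw [← hW, mem_subgroupOf]
      by_contra hne
      have hsq : ((g⁻¹ * (⟨u, T.V_le_X0 hu⟩ : T.X0) * g : T.X0) : M) * (g⁻¹ * ⟨u, T.V_le_X0 hu⟩ * g : T.X0) = 1 := by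
        simp only [Subgroup.coe_mul, Subgroup.coe_inv]
        rw [show ∀ a b : M, a⁻¹ * b * a * (a⁻¹ * b * a) = a⁻¹ * (b * b) * a from fun a b => by group,
          T.sq hu]
        group
      refine T.not_conj_into hg hsq hne g.2 ?_
      simpa [mul_assoc] using hu
  -- the subgroup generated by the squares
  obtain ⟨Q, hQ⟩ : ∃ Q, closure {y : M | ∃ x ∈ T.X0, y = x * x} = Q := ⟨_, rfl⟩
  have hQX : Q ≤ T.X0 := hQ ▸ (closure_le _).2 (by rintro _ ⟨x, hx, rfl⟩; exact T.X0.mul_mem hx hx)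
  have hQN : ∀ y (hy : y ∈ Q), (⟨y, hQX hy⟩ : T.X0) ∈ N := by
    intro y hy
    have hle : Q ≤ N.map T.X0.subtype := hQ ▸ (closure_le _).2 (by
      rintro _ ⟨x, hx, rfl⟩
      exact ⟨⟨x, hx⟩ * ⟨x, hx⟩, mul_self_mem_of_index_two hN2 _, rfl⟩)
    obtain ⟨⟨z, hz⟩, hzN, rfl⟩ := hle hy
    exact hzN
  have hnorm : ∀ l : M, l ∈ normalizer (T.X0 : Set M) → ∀ y ∈ Q, l * y * l⁻¹ ∈ Q := by
    intro l hl y hy
    have hle : Q ≤ Q.comap (MulAut.conj l).toMonoidHom := hQ ▸ (closure_le _).2 (by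
      rintro _ ⟨x, hx, rfl⟩
      show l * (x * x) * l⁻¹ ∈ Subgroup.closure _
      exact Subgroup.subset_closure ⟨l * x * l⁻¹, (mem_normalizer_iff.1 hl x).1 hx, by group⟩)
    exact hle hy
  -- the codes occurring in `Q` have cube one
  have hcube : ∀ y ∈ Q, y ∈ L → ⊚ (⊚ (T.code y) (T.code y)) (T.code y) = idm := by
    intro y hy hyL
    rcases stab3_cases (T.code_X0 (hQX hy) hyL) with h | h
    · exact h
    exfalso
    obtain ⟨z, hz⟩ : ∃ z : T.X0, (⟨y, hQX hy⟩ : T.X0) * ⟨T.jr, T.CF_le_X0 T.jr_CF⟩ = z := ⟨_, rfl⟩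
    have hzN : z ∉ N := fun h' => hjN ((N.mul_mem_cancel_left (hQN y hy)).1 (hz ▸ h'))
    have hzL : (z : M) ∈ L := hz ▸ L.mul_mem hyL hjL
    have hv : (z : M) * z * z ∈ V := T.ker _ (L.mul_mem (L.mul_mem hzL hzL) hzL) (by
      have hzc : T.code (z : M) = ⊚ (T.code y) rr := by rw [← hz]; show T.code (y * T.jr) = _; rw [T.code_mul _ hyL _ hjL, hjc]
      rw [T.code_mul _ (L.mul_mem hzL hzL) _ hzL, T.code_mul _ hzL _ hzL, hzc, h])
    have h3 : z * z * z ∈ N := by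
      exact hVN _ hv
    exact hzN ((N.mul_mem_cancel_left (mul_self_mem_of_index_two hN2 z)).1 h3)
  -- a Sylow 3-subgroup of `Q`
  have := Fact.mk Nat.prime_three
  obtain ⟨-, hq1, hq2, -, h12, -, -, -, -, hp11, hp12, hp14, -, hx3', ⟨hn1, hn2⟩, -⟩ := frame_props
  obtain ⟨a, ha, x, hxL, hax, hxc, hao, hxo, hac⟩ := T.lift_pair hq1 hq2 h12
  have hxX : x ∈ T.X0 := by
    simp only [stab3, List.mem_filter, Bool.and_eq_true, Nat.beq_eq] at hx3'
    have h1 : app (ev rootWord) 1 = 1 := by decide +kernel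
    refine T.mem_X0.2 ⟨?_, ?_, ?_⟩ <;> refine (T.commute_vec hxL (by norm_num)).2 ?_ <;> rw [hxc]
    · exact h1
    · exact hx3'.2.1
    · exact hx3'.2.2
  have hxQ : x ∈ Q := by
    refine hQ ▸ Subgroup.subset_closure ⟨x * x, T.X0.mul_mem hxX hxX, ?_⟩
    rw [show x * x * (x * x) = x * (x * x * x) by group, mul_assoc x x x, ← pow_three, ← hxo,
      pow_orderOf_eq_one, mul_one]
  obtain ⟨P, hP⟩ := (IsPGroup.of_card (n := 1)
    (show Nat.card (zpowers (⟨x, hxQ⟩ : Q)) = 3 ^ 1 by rw [Nat.card_zpowers, Subgroup.orderOf_mk, hxo, pow_one])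
    ).exists_le_sylow
  have hxP : (⟨x, hxQ⟩ : Q) ∈ (P : Subgroup Q) := hP (mem_zpowers _)
  obtain ⟨P', hP'⟩ : ∃ P', (P : Subgroup Q).map Q.subtype = P' := ⟨_, rfl⟩
  have hP'p : IsPGroup 3 P' := hP' ▸ P.2.map _
  have hxP' : x ∈ P' := hP' ▸ ⟨⟨x, hxQ⟩, hxP, rfl⟩
  have hP'L : P' ≤ L := by
    have : P' ⊓ L = P' := by
      refine Embedded.eq_of_normalizer_inf_le hP'p inf_le_left ?_
      rintro g ⟨hg, hgN⟩
      refine ⟨hg, T.three x hxL hxo g ?_⟩
      exact ((mem_normalizer_iff.1 hgN x).1 ⟨hxP', hxL⟩).2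
    exact this ▸ inf_le_right
  have hP'V : ∀ y ∈ P', y ∈ V → y = 1 := by
    intro y hy hyV
    obtain ⟨k, hk⟩ := hP'p ⟨y, hy⟩
    have hk' : y ^ 3 ^ k = 1 := by simpa using congrArg Subtype.val hk
    have h2 : orderOf y ∣ 2 := orderOf_dvd_of_pow_eq_one (by rw [pow_two, T.sq hyV])
    exact orderOf_eq_one_iff.1 (Nat.eq_one_of_dvd_coprimes ((by norm_num : (2 : ℕ).Coprime 3).pow_right k) h2
      (orderOf_dvd_of_pow_eq_one hk'))
  have hP'Q : P' ≤ Q := hP' ▸ map_subtype_le _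
  have hcentral : normalizer ((P : Subgroup Q) : Set Q) ≤ centralizer ((P : Subgroup Q) : Set Q) := by
    intro n hn
    have hnL : (n : M) ∈ L := by
      refine T.three x hxL hxo _ ?_
      have := (mem_normalizer_iff.1 hn ⟨x, hxQ⟩).1 hxP
      exact hP'L (hP' ▸ ⟨_, this, rfl⟩)
    refine mem_centralizer_iff.2 fun p hp => ?_
    have hpL : (p : M) ∈ L := hP'L (hP' ▸ ⟨p, hp, rfl⟩)
    obtain ⟨d, hd⟩ : ∃ d : Q, n * p * n⁻¹ * p⁻¹ = d := ⟨_, rfl⟩
    have hdP : d ∈ (P : Subgroup Q) := hd ▸ mul_mem ((mem_normalizer_iff.1 hn p).1 hp) (inv_mem hp)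
    have hdV : (d : M) ∈ V := by
      refine T.ker _ (hP'L (hP' ▸ ⟨d, hdP, rfl⟩)) ?_
      have hc := stab3_commute (T.code_X0 (hQX n.2) hnL) (T.code_X0 (hQX p.2) hpL)
        (hcube _ n.2 hnL) (hcube _ p.2 hpL)
      rw [← hd]
      show T.code ((n : M) * p * (n : M)⁻¹ * (p : M)⁻¹) = idm
      rw [T.code_mul _ (L.mul_mem (L.mul_mem hnL hpL) (L.inv_mem hnL)) _ (L.inv_mem hpL),
        T.code_mul _ (L.mul_mem hnL hpL) _ (L.inv_mem hnL), T.code_mul _ hnL _ hpL, hc,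
        cmp_assoc (T.code (p : M)), (T.code_inv hnL).2, cmp_idm (T.good _ hpL).1, (T.code_inv hpL).2]
    have hd1 : d = 1 := Subtype.ext (hP'V _ (hP' ▸ ⟨d, hdP, rfl⟩) hdV)
    rw [hd1] at hd
    exact (eq_of_mul_inv_eq_one (by rw [← hd]; group : n * p * (p * n)⁻¹ = 1)).symm
  have hcompl := MonoidHom.ker_transferSylow_isComplement' P hcentral
  have hnd := MonoidHom.not_dvd_card_ker_transferSylow P hcentral
  obtain ⟨O, hO⟩ : ∃ O, (MonoidHom.transferSylow P hcentral).ker = O := ⟨_, rfl⟩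
  rw [hO] at hcompl hnd
  -- `O` is the set of elements of order prime to three
  have hOmem : ∀ y : Q, y ∈ O ↔ (orderOf y).Coprime 3 := by
    intro y
    constructor
    · intro hy
      exact Nat.Coprime.coprime_dvd_left (orderOf_dvd_natCard O hy)
        (Nat.prime_three.coprime_iff_not_dvd.2 hnd).symm
    · intro hy
      rw [← hO, MonoidHom.mem_ker, ← orderOf_eq_one_iff]
      obtain ⟨k, hk⟩ := P.2 ((MonoidHom.transferSylow P hcentral) y)
      exact Nat.eq_one_of_dvd_coprimes (hy.pow_right k) (orderOf_map_dvd _ y) (orderOf_dvd_of_pow_eq_one hk)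
  obtain ⟨O', hO'⟩ : ∃ O', O.map Q.subtype = O' := ⟨_, rfl⟩
  have hnormO : ∀ l : M, l ∈ normalizer (T.X0 : Set M) → l ∈ normalizer (O' : Set M) := by
    intro l hl
    have hle : ∀ {g : M}, g ∈ normalizer (T.X0 : Set M) → ∀ y ∈ O', g * y * g⁻¹ ∈ O' := by
      intro g hg y hy
      rw [← hO'] at hy ⊢
      obtain ⟨y', hy', rfl⟩ := hy
      refine ⟨⟨_, hnorm g hg _ y'.2⟩, (hOmem _).2 ?_, rfl⟩
      rw [Subgroup.orderOf_mk]
      show (orderOf (MulAut.conj g (y' : M))).Coprime 3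
      rw [
        MulEquiv.orderOf_eq, Subgroup.orderOf_coe]
      exact (hOmem y').1 hy'
    refine mem_normalizer_iff.2 fun y => ⟨hle hl y, fun hy => ?_⟩
    have := hle (inv_mem hl) _ hy
    rwa [show l⁻¹ * (l * y * l⁻¹) * l⁻¹⁻¹ = y by group] at this
  have haN : a ∈ normalizer (T.X0 : Set M) := by
    refine mem_normalizer_centralizer ?_
    intro s hs g hg
    obtain ⟨g1, g2, g4⟩ := T.mem_X0.1 hg
    simp only [Set.mem_insert_iff, Set.mem_singleton_iff] at hs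
    rcases hs with rfl | rfl | rfl
    · rw [T.conj a ha 1 (by norm_num), hax, hp11]; exact g2
    · rw [T.conj a ha 2 (by norm_num), hax, hp12, show (3 : ℕ) = 1 ^^^ 2 by decide,
        T.vec_xor 1 (by norm_num) 2 (by norm_num)]
      exact g1.mul_right g2
    · rw [T.conj a ha 4 (by norm_num), hax, hp14]; exact g4
  have hO'L : O' ≤ L := T.le_of_three ha hao hxL hxo hac (by rw [hax, hxc]; exact hn1)
    (by rw [hax, hxc]; exact hn2) (hnormO a haN) (hnormO x (le_normalizer hxX)) (by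
      intro y hy _ hy3
      rw [← hO'] at hy
      obtain ⟨y', hy', rfl⟩ := hy
      refine orderOf_eq_one_iff.1 (Nat.eq_one_of_dvd_coprimes (k := orderOf (y' : M)) ((hOmem y').1 hy')
        ?_ (orderOf_dvd_of_pow_eq_one (by rw [pow_three, ← mul_assoc]; exact hy3)))
      rw [Subgroup.orderOf_coe])
  have hQL : Q ≤ L := by
    intro y hy
    obtain ⟨⟨o, p⟩, e⟩ := (isComplement'_def.1 hcompl).2 ⟨y, hy⟩
    rw [← show ((o : Q) : M) * ((p : Q) : M) = y from congrArg Subtype.val e]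
    exact L.mul_mem (hO'L (hO' ▸ ⟨o, o.2, rfl⟩)) (hP'L (hP' ▸ ⟨p, p.2, rfl⟩))
  intro g hg
  exact T.three x hxL hxo g (hQL (hnorm g (le_normalizer hg) x hxQ))

end Tw

end Cfsg.Agent.U62Three.C
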