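import Cfsg.Agent.U62Three.C.Vector

/-!
# `L` is the whole group
-/

set_option autoImplicit false
set_option linter.unusedSectionVars false
set_option maxRecDepth 20000

open Subgroup

namespace Cfsg.Agent.U62Three.C

open U62Rec K.Code Code TwoClassClosed

local notation "⊚" => U62Rec.cmp

universe u

variable {M : Type u} [Group M] {L V : Subgroup M}

theorem mem_unitList {n : ℕ} : n ∈ unitList ↔ n < 256 ∧ qv 255 n = true := by
  simp [unitList]

namespace Tw

variable (T : Tw L V)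

include T

/-- An element of `L` moving a vector of value one to `1`. -/
theorem exists_to_one {n : ℕ} (hn : n ∈ unitList) : ∃ l ∈ L, l * T.vec n * l⁻¹ = T.vec 1 := by
  obtain ⟨w, w1, -⟩ := orbit_word hn
  obtain ⟨l, hl, hlc⟩ := T.att_word (ev_att w)
  exact ⟨l, hl, by rw [T.conj l hl n (mem_unitList.1 hn).1, hlc, w1]⟩

/-- The centraliser of a vector of value one lies in `L`. -/
theorem cent_vec [Finite M] {n : ℕ} (hn : n ∈ unitList) {g : M} (h : Commute g (T.vec n)) : g ∈ L := by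
  obtain ⟨l, hl, e⟩ := T.exists_to_one hn
  have h' : Commute (l * g * l⁻¹) (T.vec 1) := by
    rw [← e]
    simpa using h.map (MulAut.conj l).toMonoidHom
  have := L.mul_mem (L.mul_mem (L.inv_mem hl) (T.one_le h')) hl
  rwa [show l⁻¹ * (l * g * l⁻¹) * l = g by group] at this

/-- An element carrying `V` into the centraliser of a vector of value one lies in `L`. -/
theorem mem_of_conj_commute [Finite M] {n : ℕ} (hn : n ∈ unitList) {g : M}
    (h : ∀ x ∈ V, Commute (g * x * g⁻¹) (T.vec n)) : g ∈ L := by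
  obtain ⟨l, hl, e⟩ := T.exists_to_one hn
  have hlg : l * g ∈ L := T.mem_of_conj_le fun x hx => by
    have h1 : Commute (l * g * x * (l * g)⁻¹) (T.vec 1) := by
      rw [← e]
      simpa [mul_assoc] using (h x hx).map (MulAut.conj l).toMonoidHom
    exact ⟨T.one_le h1, h1⟩
  simpa using L.mul_mem (L.inv_mem hl) hlg

/-- An involution of `L` outside `V` other than a transvection commutes with an element of order three. -/
theorem invol_three [Finite M] {j : M} (hj : j ∈ L) (hj2 : j * j = 1) (hjV : j ∉ V)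
    (hT : isT (T.code j) ≠ true) : ∃ e ∈ L, Rigid L e ∧ Commute e j := by
  rcases inv_wit (T.good j hj) (T.code_sq hj hj2) (T.code_ne hj hjV) with h | ⟨hF, y, hy, hcy⟩
  · exact absurd h hT
  obtain ⟨e, he, he3, hey, heo⟩ := T.lift_three hy
  obtain ⟨w, hw, hwe⟩ := T.commute_three hj hj2 hF he he3 (by rw [hey]; exact hcy)
  have hweL : w * e * w ∈ L := L.mul_mem (L.mul_mem (T.le hw) he) (T.le hw)
  refine ⟨_, hweL, T.three _ hweL ?_, hwe⟩
  have he'c : MulAut.conj w e = w * e * w := by rw [MulAut.conj_apply, T.inv_eq hw]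
  rw [← he'c, MulEquiv.orderOf_eq, heo]

/-- The vector `1` is rigid. -/
theorem rigid_one [Finite M] {g : M} (hj : g * T.vec 1 * g⁻¹ ∈ L) : g ∈ L := by
  by_cases hjV : g * T.vec 1 * g⁻¹ ∈ V
  · have h : g⁻¹ ∈ L := T.mem_of_conj_commute (n := 1) (mem_unitList.2 ⟨by norm_num, by decide +kernel⟩)
      fun x hx => by
        have := (T.comm hx hjV).map (MulAut.conj g⁻¹).toMonoidHom
        simpa [mul_assoc] using this
    simpa using L.inv_mem h
  by_cases hT : isT (T.code (g * T.vec 1 * g⁻¹)) = true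
  · obtain ⟨I, hI256, hIx, hIc, -, hIcomm, -⟩ := T.trans_vectors (D := ⊤) le_top (mem_top g) hj hT
      fun h _ hh => ⟨T.one_le hh, hh⟩
    obtain ⟨n, hn, hq⟩ := exists_one hI256 hIx hIc
    have h : g⁻¹ ∈ L := T.mem_of_conj_commute (mem_unitList.2 ⟨hI256 n hn, hq⟩) fun x hx => by
      simpa using hIcomm n hn x hx
    simpa using L.inv_mem h
  · have hj2 : g * T.vec 1 * g⁻¹ * (g * T.vec 1 * g⁻¹) = 1 := by
      rw [conj_mul, T.vec_sq (by norm_num)]; group
    obtain ⟨e, he, her, hej⟩ := T.invol_three hj hj2 hjV hT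
    have h1 : Commute (g⁻¹ * e * g) (T.vec 1) := by
      have := hej.map (MulAut.conj g⁻¹).toMonoidHom
      simpa [mul_assoc] using this
    simpa using L.inv_mem (her g⁻¹ (by simpa using T.one_le h1))

/-- Vectors of value one are rigid. -/
theorem rigid_vec [Finite M] {n : ℕ} (hn : n ∈ unitList) : Rigid L (T.vec n) := by
  intro g hg
  obtain ⟨l, hl, e⟩ := T.exists_to_one hn
  have h : g * l⁻¹ ∈ L := T.rigid_one (by
    rw [← e, show g * l⁻¹ * (l * T.vec n * l⁻¹) * (g * l⁻¹)⁻¹ = g * T.vec n * g⁻¹ by group]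
    exact hg)
  simpa using L.mul_mem h hl

/-- The conclusion of the tower. -/
theorem eq_top [Finite M] : L = ⊤ := by
  classical
  refine eq_top_of_singular (K := V) (N := {x | ∃ n ∈ unitList, x = T.vec n}) T.le
    (fun l hl k hk => T.conj_mem hl hk) (fun k hk => T.sq hk) ?_ ?_ ?_ ?_ ?_
    (x := T.vec 1) ⟨1, mem_unitList.2 ⟨by norm_num, by decide +kernel⟩, rfl⟩
    (s := T.vec 20) (T.vec_mem 20 (by norm_num))
    (fun e => absurd (T.vec_ker 20 (by norm_num) e) (by norm_num)) ?_
  · rintro _ ⟨n, hn, rfl⟩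
    exact T.vec_mem n (mem_unitList.1 hn).1
  · rintro _ ⟨n, hn, rfl⟩
    exact T.rigid_vec hn
  · rintro l hl _ ⟨n, hn, rfl⟩
    obtain ⟨hn, hq⟩ := mem_unitList.1 hn
    exact ⟨_, mem_unitList.2 ⟨app_lt _ _, ((T.good l hl).2.2 n hn).trans hq⟩, T.conj l hl n hn⟩
  · intro U hUV hU hUN
    obtain ⟨u, huU, hu1⟩ := (Subgroup.bot_or_exists_ne_one U).resolve_left hU
    obtain ⟨w, hw, rfl⟩ := T.vec_surj u (hUV huU)
    have hw0 : w ≠ 0 := fun e => hu1 (by rw [e, T.vec_zero])
    have hsing : ∀ m < 256, T.vec m ∈ U → qv 255 m = false := fun m hm hmU => by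
      by_contra h
      exact hUN _ hmU ⟨m, mem_unitList.2 ⟨hm, by simpa using h⟩, rfl⟩
    obtain ⟨x, hx, y, hy, hxw, hyw⟩ := sep hw hw0
    refine ⟨_, ⟨x, hx, rfl⟩, _, ⟨y, hy, rfl⟩, fun l hl hlU hmem => ?_⟩
    have hx256 := (mem_unitList.1 hx).1
    have hy256 := (mem_unitList.1 hy).1
    have hfix := (T.commute_vec hl hw).1 (mem_centralizer_iff.1 hlU _ huU).symm
    obtain ⟨m, hm⟩ : ∃ m, app (T.code l) x ^^^ y = m := ⟨_, rfl⟩
    rw [T.conj l hl x hx256, T.vec_inv hy256, ← T.vec_xor _ (app_lt _ _) y hy256, hm] at hmem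
    have hm256 : m < 256 := hm ▸ Nat.xor_lt_two_pow (n := 8) (app_lt _ _) hy256
    have hmw : T.vec (m ^^^ w) ∈ U := by
      rw [T.vec_xor m hm256 w hw]
      exact U.mul_mem hmem huU
    have hfv := qv_xor255 (hsing m hm256 hmem) (hsing w hw huU)
      (hsing _ (Nat.xor_lt_two_pow (n := 8) hm256 hw) hmw)
    have e1 : fv (app (T.code l) x) w = fv x w := by
      conv_lhs => rw [← hfix]
      exact iso_fv (T.good l hl).2.2 hx256 hw
    rw [← hm, fv_xor, e1, hxw, hyw] at hfv
    simp at hfv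
  · intro j hj hj2 hjV
    by_cases hT : isT (T.code j) = true
    · have hnd : (fixList (T.code j)).Nodup := List.nodup_range.filter _
      obtain ⟨n, hn, hq⟩ := exists_one (I := (fixList (T.code j)).toFinset)
        (fun a ha => (fixList_iff.1 (List.mem_toFinset.1 ha)).1)
        (fun a ha b hb => List.mem_toFinset.2 (fixList_iff.2 ⟨Nat.xor_lt_two_pow (n := 8)
          (fixList_iff.1 (List.mem_toFinset.1 ha)).1 (fixList_iff.1 (List.mem_toFinset.1 hb)).1, by
          rw [app_xor, (fixList_iff.1 (List.mem_toFinset.1 ha)).2, (fixList_iff.1 (List.mem_toFinset.1 hb)).2]⟩))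
        (by
          have hlen : (fixList (T.code j)).length = 64 := by simpa [isT, Nat.beq_eq] using hT
          rw [List.toFinset_card_of_nodup hnd, hlen]
          norm_num)
      obtain ⟨hn256, hnf⟩ := fixList_iff.1 (List.mem_toFinset.1 hn)
      exact ⟨_, T.le (T.vec_mem n hn256), T.rigid_vec (mem_unitList.2 ⟨hn256, hq⟩),
        ((T.commute_vec hj hn256).2 hnf).symm⟩
    · exact T.invol_three hj hj2 hjV hT
  · rintro ⟨n, hn, e⟩
    obtain ⟨hn, hq⟩ := mem_unitList.1 hn
    rw [← T.vec_inj (by norm_num) hn e, twenty.1] at hq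
    simp at hq

end Tw

end Cfsg.Agent.U62Three.C
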