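import Cfsg.Agent.U62Three.C.Line
import Cfsg.Agent.U62Three.C.Code.Transv
import Cfsg.Agent.Invol.ZStar

/-!
# The centraliser of a vector of value one lies in `L`

In `C(1)` the image of `2` modulo `1` is isolated, so central by Glauberman's theorem: the odd core is trivial as
it is generated by centralisers of elements of order three of `L`.
-/

set_option autoImplicit false
set_option linter.unusedSectionVars false
set_option maxRecDepth 20000

open Subgroup

namespace Cfsg.Agent.U62Three.C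

open U62Rec K.Code Code TwoClassClosed

local notation "⊚" => U62Rec.cmp

universe u

variable {M : Type u} [Group M] {L V : Subgroup M}

namespace Tw

variable (T : Tw L V)

include T

/-- The centraliser of a line of vectors of value one lies in `L`. -/
theorem cent_line [Finite M] {n : ℕ} (hn : n ∈ unitList) {g : M} (h1 : Commute g (T.vec n))
    (h2 : Commute g (T.vec (K.Code.omv n))) : g ∈ L := by
  obtain ⟨w, w1, w2⟩ := orbit_word hn
  obtain ⟨l, hl, hlc⟩ := T.att_word (ev_att w)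
  have key : ∀ a b, a < 256 → app (ev w) a = b → Commute g (T.vec a) → Commute (l * g * l⁻¹) (T.vec b) := by
    intro a b ha e hc
    rw [show T.vec b = l * T.vec a * l⁻¹ by rw [T.conj l hl a ha, hlc, e]]
    simpa using hc.map (MulAut.conj l).toMonoidHom
  have hX : l * g * l⁻¹ ∈ L := T.CL_le (T.mem_CL.2
    ⟨key n 1 (List.mem_range.1 (List.mem_filter.1 hn).1) w1 h1, key _ 2 (app_lt _ _) w2 h2⟩)
  have := L.mul_mem (L.mul_mem (L.inv_mem hl) hX) hl
  rwa [show l⁻¹ * (l * g * l⁻¹) * l = g by group] at this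

/-- An element carrying `V` into `L` and keeping it in the centraliser of `1` lies in `L`. -/
theorem mem_of_conj_le [Finite M] {g : M}
    (h : ∀ x ∈ V, g * x * g⁻¹ ∈ L ∧ Commute (g * x * g⁻¹) (T.vec 1)) : g ∈ L := by
  obtain ⟨S, hS⟩ : ∃ S, V.map (MulAut.conj g).toMonoidHom = S := ⟨_, rfl⟩
  have hmem : ∀ x ∈ S, x ∈ L ∧ Commute x (T.vec 1) := by
    intro x hx
    rw [← hS] at hx
    obtain ⟨v, hv, rfl⟩ := hx
    exact h v hv
  have heq := T.elem_unique (fun x hx => (hmem x hx).1) (hS ▸ T.elem_V.map g) (fun x hx => (hmem x hx).2)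
    (by rw [← hS, card_map_of_injective (MulAut.conj g).injective, T.card_V])
  exact T.norm g fun x hx => by
    rw [← heq, ← hS]
    exact ⟨x, hx, rfl⟩

theorem conj_commute_one {g x : M} (hg : Commute g (T.vec 1)) (hx : Commute x (T.vec 1)) :
    Commute (g * x * g⁻¹) (T.vec 1) := (hg.mul_left hx).mul_left hg.inv_left

theorem inv_mul_commute_one {g x : M} (hg : Commute g (T.vec 1)) (hx : Commute x (T.vec 1)) :
    Commute (g⁻¹ * x * g) (T.vec 1) := (hg.inv_left.mul_left hx).mul_left hg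

/-- An element of `C(1)` carrying `2` into `V` lies in `L`. -/
theorem two_fusion [Finite M] {g : M} (hg : Commute g (T.vec 1)) (h : g * T.vec 2 * g⁻¹ ∈ V) : g ∈ L :=
  T.fusion (D := centralizer {T.vec 1})
    (fun x hx => mem_centralizer_singleton_iff.2 (T.comm hx (T.vec_mem 1 (by norm_num))).eq)
    (T.vec_mem 2 (by norm_num)) (mem_centralizer_singleton_iff.2 hg.eq) h
    fun _ hh hc => ⟨T.CL_le (T.mem_CL.2 ⟨mem_centralizer_singleton_iff.1 hh, hc⟩),
      mem_centralizer_singleton_iff.1 hh⟩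

/-- An element of `C(1)` carrying `2` into `L` lies in `L`. -/
theorem two_rigid [Finite M] {g : M} (hg : Commute g (T.vec 1)) (hj : g * T.vec 2 * g⁻¹ ∈ L) : g ∈ L := by
  by_cases hjV : g * T.vec 2 * g⁻¹ ∈ V
  · exact T.two_fusion hg hjV
  obtain ⟨j, hje⟩ : ∃ j, g * T.vec 2 * g⁻¹ = j := ⟨_, rfl⟩
  rw [hje] at hj hjV
  have hj2 : j * j = 1 := by rw [← hje, conj_mul, T.vec_sq (by norm_num)]; group
  have hj1 : Commute j (T.vec 1) := hje ▸ T.conj_commute_one hg (T.vec_comm (by norm_num) (by norm_num))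
  obtain ⟨c, hc⟩ : ∃ c, T.code j = c := ⟨_, rfl⟩
  have hcg : Good c := hc ▸ T.good j hj
  have c2 : ⊚ c c = idm := hc ▸ T.code_sq hj hj2
  have cne : c ≠ idm := hc ▸ T.code_ne hj hjV
  have e1 : app c 1 = 1 := hc ▸ (T.commute_vec hj (by norm_num)).1 hj1
  by_cases hT : isT c = true
  · -- a transvection with centre `p`
    have mem_iff : ∀ {u : ℕ}, u < 256 → app c u = u → Commute j (T.vec u) := fun hu h =>
      (T.commute_vec hj hu).2 (hc.symm ▸ h)
    let J : ℕ → Prop := fun u => g⁻¹ * T.vec u * g ∈ V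
    have J_xor : ∀ {u v : ℕ}, u < 256 → v < 256 → J u → J v → J (u ^^^ v) := by
      intro u v hu hv h h'
      show g⁻¹ * T.vec (u ^^^ v) * g ∈ V
      rw [T.vec_xor u hu v hv, show g⁻¹ * (T.vec u * T.vec v) * g
        = (g⁻¹ * T.vec u * g) * (g⁻¹ * T.vec v * g) by group]
      exact V.mul_mem h h'
    have hin : ∀ {u : ℕ}, u < 256 → app c u = u →
        g⁻¹ * T.vec u * g ∈ L ∧ Commute (g⁻¹ * T.vec u * g) (T.vec 1) := by
      intro u hu hfu
      have h1 := T.inv_mul_commute_one hg (T.vec_comm hu (show 1 < 256 by norm_num))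
      refine ⟨T.CL_le (T.mem_CL.2 ⟨h1, ?_⟩), h1⟩
      have := (mem_iff hu hfu).symm.map (MulAut.conj g⁻¹).toMonoidHom
      rw [← hje] at this
      simpa [mul_assoc] using this
    -- outside `J` all fixed vectors give the same code
    have J_not : ∀ {u v : ℕ}, u < 256 → v < 256 → app c u = u → app c v = v → ¬ J u → ¬ J v → J (u ^^^ v) := by
      intro u v hu hv fu fv' nu nv
      obtain ⟨F, hF⟩ : ∃ F, V ⊓ centralizer {j} = F := ⟨_, rfl⟩
      obtain ⟨S, hS⟩ : ∃ S, F.map (MulAut.conj g⁻¹).toMonoidHom = S := ⟨_, rfl⟩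
      have memF : ∀ {a : ℕ}, a < 256 → app c a = a → T.vec a ∈ F := fun ha h => hF ▸
        ⟨T.vec_mem _ ha, mem_centralizer_singleton_iff.2 (mem_iff ha h).symm.eq⟩
      have hSmem : ∀ x ∈ S, x ∈ L ∧ Commute x (T.vec 1) := by
        intro x hx
        rw [← hS] at hx
        obtain ⟨a, ha, rfl⟩ := hx
        rw [← hF] at ha
        obtain ⟨b, hb, rfl⟩ := T.vec_surj a ha.1
        simpa [mul_assoc] using hin hb
          (hc ▸ (T.commute_vec hj hb).1 (mem_centralizer_singleton_iff.1 ha.2).symm)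
      have hcard : 64 ≤ Nat.card S := by
        have hlen : (fixList c).length = 64 := by simpa [isT, Nat.beq_eq] using hT
        let f : (fixList c).toFinset → F := fun a => ⟨T.vec a, memF
          (fixList_iff.1 (List.mem_toFinset.1 a.2)).1 (fixList_iff.1 (List.mem_toFinset.1 a.2)).2⟩
        have hf : Function.Injective f := fun a b e => Subtype.ext
          (T.vec_inj (fixList_iff.1 (List.mem_toFinset.1 a.2)).1 (fixList_iff.1 (List.mem_toFinset.1 b.2)).1
            (congrArg Subtype.val e))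
        have := Nat.card_le_card_of_injective f hf
        have hnd : (fixList c).Nodup := List.nodup_range.filter _
        rw [Nat.card_eq_finsetCard, List.toFinset_card_of_nodup hnd] at this
        rw [← hS, card_map_of_injective (MulAut.conj g⁻¹).injective]
        omega
      have memS : ∀ {a : ℕ}, a < 256 → app c a = a → g⁻¹ * T.vec a * g ∈ S := fun ha h =>
        hS ▸ ⟨_, memF ha h, by simp⟩
      have hSe : Elem S := hS ▸ Elem.map (fun x hx => T.sq (hF.ge hx).1) g⁻¹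
      have hSV : ¬ S ≤ V := fun h => nu (h (memS hu fu))
      obtain ⟨s, -, -, -, -, -, hall, -⟩ :=
        T.elem_big (fun x hx => (hSmem x hx).1) hSe (fun x hx => (hSmem x hx).2) hSV hcard
      have eu := (hall _ (memS hu fu)).resolve_left nu
      have ev' := (hall _ (memS hv fv')).resolve_left nv
      have hxu := (hSmem _ (memS hu fu)).1
      have hxv := (hSmem _ (memS hv fv')).1
      show g⁻¹ * T.vec (u ^^^ v) * g ∈ V
      rw [T.vec_xor u hu v hv, show g⁻¹ * (T.vec u * T.vec v) * g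
        = (g⁻¹ * T.vec u * g) * (g⁻¹ * T.vec v * g) by group]
      refine T.ker _ (L.mul_mem hxu hxv) ?_
      rw [T.code_mul _ hxu _ hxv, ev', ← eu, T.code_sq hxu (hSe _ (memS hu fu))]
    have e2 : app c 2 = 2 := by
      rcases inv1_big hcg c2 cne e1 with h | h
      · have hlen : (fixList c).length = 64 := by simpa [isT, Nat.beq_eq] using hT
        omega
      · exact h.2
    have hJ1 : J 1 := by
      show g⁻¹ * T.vec 1 * g ∈ V
      rw [hg.inv_left.eq, inv_mul_cancel_right]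
      exact T.vec_mem 1 (by norm_num)
    by_cases hJ2 : J 2
    · have h := T.two_fusion (g := g⁻¹) hg.inv_left (by rw [inv_inv]; exact hJ2)
      simpa using L.inv_mem h
    by_cases hall : ∀ w < 256, J (w ^^^ app c w)
    · refine (inv_mem_iff (x := g)).1 (T.mem_of_conj_le fun x hx => ?_)
      obtain ⟨w, hw, rfl⟩ := T.vec_surj x hx
      rw [inv_inv]
      have h1 := T.inv_mul_commute_one hg (T.vec_comm hw (show 1 < 256 by norm_num))
      refine ⟨T.two_fusion h1 ?_, h1⟩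
      have e : g⁻¹ * T.vec w * g * T.vec 2 * (g⁻¹ * T.vec w * g)⁻¹
          = (g⁻¹ * T.vec (w ^^^ app c w) * g) * T.vec 2 := by
        rw [T.vec_xor w hw _ (app_lt _ _), ← hc, ← T.conj j hj w hw, ← hje]
        simp only [mul_inv_rev, inv_inv, T.vec_inv hw, T.vec_inv (show 2 < 256 by norm_num), mul_assoc,
          T.vec_sq (show 2 < 256 by norm_num), mul_one, inv_mul_cancel_left]
      rw [e]
      exact V.mul_mem (hall w hw) (T.vec_mem 2 (by norm_num))
    push Not at hall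
    obtain ⟨w, hw, hnot⟩ := hall
    obtain ⟨p, hp⟩ : ∃ p, w ^^^ app c w = p := ⟨_, rfl⟩
    rw [hp] at hnot
    have hp256 : p < 256 := hp ▸ Nat.xor_lt_two_pow (n := 8) hw (app_lt _ _)
    have hp0 : p ≠ 0 := by
      rintro rfl
      exact hnot (by
        show g⁻¹ * T.vec 0 * g ∈ V
        rw [T.vec_zero, mul_one, inv_mul_cancel]
        exact V.one_mem)
    obtain ⟨fp, fd, q1, m1, q2, m2⟩ := centre hcg c2 cne e1 hT hw (hp ▸ hp0)
    rw [hp] at fp fd q1 m1 q2 m2
    obtain ⟨d, hd⟩ : ∃ d, K.Code.omv p = d := ⟨_, rfl⟩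
    rw [hd] at fd q1 m1 q2 m2
    have hd256 : d < 256 := hd ▸ app_lt _ _
    have hpd : p ^^^ d < 256 := Nat.xor_lt_two_pow (n := 8) hp256 hd256
    have fe : app c (p ^^^ d) = p ^^^ d := by rw [app_xor, fp, fd]
    -- a line of vectors of value one in `J`
    obtain ⟨n, hn, hn1, hn2⟩ : ∃ n ∈ unitList, J n ∧ J (K.Code.omv n) := by
      by_cases hJd : J d
      · refine ⟨1 ^^^ d, List.mem_filter.2
          ⟨List.mem_range.2 (Nat.xor_lt_two_pow (n := 8) (by norm_num) hd256), q1⟩,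
          J_xor (by norm_num) hd256 hJ1 hJd, m1 ▸ J_not (by norm_num) hpd e2 fe hJ2 fun h => hnot ?_⟩
        have := J_xor hpd hd256 h hJd
        rwa [Nat.xor_assoc, Nat.xor_self, Nat.xor_zero] at this
      · refine ⟨1 ^^^ (p ^^^ d), List.mem_filter.2
          ⟨List.mem_range.2 (Nat.xor_lt_two_pow (n := 8) (by norm_num) hpd), q2⟩,
          J_xor (by norm_num) hpd hJ1 (J_not hp256 hd256 fp fd hnot hJd),
          m2 ▸ J_not (by norm_num) hp256 e2 fp hJ2 hnot⟩
    refine T.mem_of_conj_le fun x hx => ?_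
    have h1 := T.conj_commute_one hg (T.comm hx (T.vec_mem 1 (by norm_num)))
    have hcm : ∀ {u : ℕ}, J u → Commute (g * x * g⁻¹) (T.vec u) := by
      intro u hu
      have := (T.comm hx hu).map (MulAut.conj g).toMonoidHom
      simpa [mul_assoc] using this
    exact ⟨T.cent_line hn (hcm hn1) (hcm hn2), h1⟩
  · rcases inv_wit1 hcg c2 cne e1 with h | ⟨hF, y, hy, hy1, hcy⟩
    · exact absurd h hT
    obtain ⟨e, he, he3, hey, heo⟩ := T.lift_three hy
    obtain ⟨w, hw, hwe⟩ := T.commute_three hj hj2 (hc.symm ▸ hF) he he3 (by rw [hc, hey]; exact hcy)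
    obtain ⟨e', he'⟩ : ∃ e', w * e * w = e' := ⟨_, rfl⟩
    rw [he'] at hwe
    have he'c : MulAut.conj w e = e' := by rw [← he', MulAut.conj_apply, T.inv_eq hw]
    have he'L : e' ∈ L := he' ▸ L.mul_mem (L.mul_mem (T.le hw) he) (T.le hw)
    have he'o : orderOf e' = 3 := by rw [← he'c, MulEquiv.orderOf_eq, heo]
    have he'1 : Commute e' (T.vec 1) := by
      have hev : Commute e (T.vec 1) := (T.commute_vec he (by norm_num)).2 (by rw [hey, hy1])
      rw [← he'c]
      simpa using T.conj_commute_one (T.comm hw (T.vec_mem 1 (by norm_num))) hev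
    have h2 : Commute (g⁻¹ * e' * g) (T.vec 2) := by
      have := hwe.map (MulAut.conj g⁻¹).toMonoidHom
      rw [← hje] at this
      simpa [mul_assoc] using this
    have hmem : g⁻¹ * e' * g ∈ L := T.CL_le (T.mem_CL.2 ⟨T.inv_mul_commute_one hg he'1, h2⟩)
    simpa using L.inv_mem (T.three e' he'L he'o g⁻¹ (by simpa using hmem))

/-- The centraliser of `1` lies in `L`. -/
theorem one_le [Finite M] {g : M} (hg : Commute g (T.vec 1)) : g ∈ L := by
  obtain ⟨D, hD⟩ : ∃ D, centralizer {T.vec 1} = D := ⟨_, rfl⟩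
  have memD : ∀ {x : M}, x ∈ D ↔ Commute x (T.vec 1) := fun {x} => by
    rw [← hD, mem_centralizer_singleton_iff, commute_iff_eq]
  have v1 : (1 : ℕ) < 256 := by norm_num
  have v2 : (2 : ℕ) < 256 := by norm_num
  let Λ : Subgroup M :=
    { carrier := {x | x = 1 ∨ x = T.vec 1}
      one_mem' := Or.inl rfl
      mul_mem' := by
        rintro a b (rfl | rfl) (rfl | rfl)
        · exact Or.inl (one_mul _)
        · exact Or.inr (one_mul _)
        · exact Or.inr (mul_one _)
        · exact Or.inl (T.vec_sq v1)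
      inv_mem' := by
        rintro a (rfl | rfl)
        · exact Or.inl inv_one
        · exact Or.inr (T.vec_inv v1) }
  have memΛ : ∀ {x : M}, x ∈ Λ ↔ x = 1 ∨ x = T.vec 1 := Iff.rfl
  have hΛV : ∀ x ∈ Λ, x ∈ V := fun x hx => by
    rcases memΛ.1 hx with rfl | rfl
    exacts [V.one_mem, T.vec_mem 1 v1]
  have hΛc : ∀ a ∈ D, ∀ x ∈ Λ, a * x * a⁻¹ = x := fun a ha x hx => by
    rcases memΛ.1 hx with rfl | rfl
    · group
    · rw [(memD.1 ha).eq, mul_inv_cancel_right]
  have : (Λ.subgroupOf D).Normal := ⟨fun x hx a => by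
    rw [mem_subgroupOf] at hx ⊢
    rw [coe_mul, coe_mul, coe_inv, hΛc _ a.2 _ hx]
    exact hx⟩
  obtain ⟨π, hπs, hπ⟩ : ∃ π : D →* D ⧸ Λ.subgroupOf D, Function.Surjective π ∧
      ∀ a b : D, π a = π b ↔ (a : M)⁻¹ * b ∈ Λ :=
    ⟨QuotientGroup.mk' _, QuotientGroup.mk'_surjective _, fun a b => by
      rw [QuotientGroup.mk'_apply, QuotientGroup.mk'_apply, QuotientGroup.eq, mem_subgroupOf]
      rfl⟩
  have hπ1 : ∀ a : D, π a = 1 ↔ (a : M) ∈ Λ := fun a => by
    rw [← map_one π, eq_comm, hπ]; simp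
  have h2D : T.vec 2 ∈ D := memD.2 (T.vec_comm v2 v1)
  obtain ⟨z, hzd⟩ : ∃ z, π ⟨T.vec 2, h2D⟩ = z := ⟨_, rfl⟩
  have hz2 : orderOf z = 2 := by
    refine orderOf_eq_prime ?_ fun e => ?_
    · rw [← hzd, pow_two, ← map_mul, hπ1]
      exact Or.inl (T.vec_sq v2)
    · rcases memΛ.1 ((hπ1 _).1 (hzd.trans e)) with h | h
      · exact absurd (T.vec_ker 2 v2 h) (by norm_num)
      · exact absurd (T.vec_inj v2 v1 h) (by norm_num)
  have hiso : Cfsg.IsIsolatedInvolution z := by
    refine ⟨hz2, fun q hq => ?_⟩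
    obtain ⟨⟨h, hh⟩, rfl⟩ := hπs q
    rw [← hzd, ← map_inv, ← map_mul, ← map_mul] at hq ⊢
    obtain ⟨j, hj⟩ : ∃ j, h * T.vec 2 * h⁻¹ = j := ⟨_, rfl⟩
    have hj1 : Commute j (T.vec 1) := hj ▸ T.conj_commute_one (memD.1 hh) (T.vec_comm v2 v1)
    have hj2 : j * j = 1 := by rw [← hj, conj_mul, T.vec_sq v2]; group
    have hjv : j * T.vec 2 * j⁻¹ ∈ V := by
      have h' := hq.eq
      rw [← map_mul, ← map_mul, hπ] at h'
      simp only [Subgroup.coe_mul, Subgroup.coe_inv] at h'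
      rw [hj, mul_inv_rev, T.vec_inv v2, inv_eq_of_mul_eq_one_right hj2] at h'
      have h'' := V.mul_mem (hΛV _ h') (V.inv_mem (T.vec_mem 2 v2))
      rw [inv_eq_of_mul_eq_one_right hj2]
      rwa [show j * T.vec 2 * (j * T.vec 2) * (T.vec 2)⁻¹ = j * T.vec 2 * j by group] at h''
    have hjL := T.two_fusion hj1 hjv
    have hhL : h ∈ L := T.two_rigid (memD.1 hh) (hj.symm ▸ hjL)
    refine (hπ _ _).2 ?_
    simp only [Subgroup.coe_mul, Subgroup.coe_inv]
    rw [T.conj h hhL 2 v2, T.vec_inv (app_lt _ _), ← T.vec_xor _ (app_lt _ _) 2 v2]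
    have e1 := (T.commute_vec hhL v1).1 (memD.1 hh)
    rcases fix1_two (T.good h hhL) e1 with e | e <;> rw [e]
    · exact Or.inl (by rw [Nat.xor_self, T.vec_zero])
    · exact Or.inr rfl
  obtain ⟨X, hX⟩ : ∃ X, ((Cfsg.oddCore (D ⧸ Λ.subgroupOf D)).comap π).map D.subtype = X := ⟨_, rfl⟩
  have memX : ∀ {x : M}, x ∈ X ↔ ∃ hx : x ∈ D, π ⟨x, hx⟩ ∈ Cfsg.oddCore (D ⧸ Λ.subgroupOf D) := fun {x} => by
    rw [← hX]
    constructor
    · rintro ⟨a, ha, rfl⟩; exact ⟨a.2, ha⟩
    · rintro ⟨hx, h⟩; exact ⟨⟨x, hx⟩, h, rfl⟩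
  have hconj : ∀ a ∈ D, ∀ x ∈ X, a * x * a⁻¹ ∈ X := by
    intro a ha x hx
    obtain ⟨hxD, hx'⟩ := memX.1 hx
    refine memX.2 ⟨D.mul_mem (D.mul_mem ha hxD) (D.inv_mem ha), ?_⟩
    have := (inferInstance : (Cfsg.oddCore (D ⧸ Λ.subgroupOf D)).Normal).conj_mem _ hx' (π ⟨a, ha⟩)
    rwa [← map_inv, ← map_mul, ← map_mul] at this
  have hnorm : ∀ a ∈ D, a ∈ normalizer (X : Set M) := fun a ha => mem_normalizer_iff.2 fun x =>
    ⟨hconj a ha x, fun h => by
      have := hconj a⁻¹ (D.inv_mem ha) _ h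
      rwa [show a⁻¹ * (a * x * a⁻¹) * a⁻¹⁻¹ = x by group] at this⟩
  have hsmall : ∀ x ∈ X, x * x ∈ Λ → x ∈ Λ := by
    intro x hx hxx
    obtain ⟨hxD, hx'⟩ := memX.1 hx
    refine (hπ1 ⟨x, hxD⟩).1 ?_
    by_contra hne
    refine Core.not_dvd_card_pPrimeCore (p := 2) (G := D ⧸ Λ.subgroupOf D) ?_
    have ho : orderOf (π ⟨x, hxD⟩) = 2 := orderOf_eq_prime (by
      rw [pow_two, ← map_mul, hπ1]; exact hxx) hne
    have h2 := orderOf_dvd_natCard (⟨_, hx'⟩ : Cfsg.oddCore (D ⧸ Λ.subgroupOf D))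
    rwa [Subgroup.orderOf_mk, ho] at h2
  have hXV : ∀ x ∈ X, x ∈ V → x ∈ Λ := fun x hx hxV => hsmall x hx (by rw [T.sq hxV]; exact Λ.one_mem)
  have hXL : ∀ x ∈ X, x ∈ L → x ∈ Λ := by
    intro x hx hxL
    obtain ⟨hxD, -⟩ := memX.1 hx
    have e1 := (T.commute_vec hxL v1).1 (memD.1 hxD)
    have key : ∀ a < 256, app (T.code x) a = a ∨ app (T.code x) a = a ^^^ 1 := by
      intro a ha
      have hVD : T.vec a ∈ D := memD.2 (T.vec_comm ha v1)
      have hX' : x * T.vec a * x⁻¹ * (T.vec a)⁻¹ ∈ X := by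
        have := X.mul_mem hx (hconj _ hVD _ (X.inv_mem hx))
        rwa [show x * (T.vec a * x⁻¹ * (T.vec a)⁻¹) = x * T.vec a * x⁻¹ * (T.vec a)⁻¹ by group] at this
      have hV' : x * T.vec a * x⁻¹ * (T.vec a)⁻¹ ∈ V :=
        V.mul_mem (T.conj_mem hxL (T.vec_mem a ha)) (V.inv_mem (T.vec_mem a ha))
      have h := hXV _ hX' hV'
      rw [T.conj x hxL a ha, T.vec_inv ha, ← T.vec_xor _ (app_lt _ _) a ha] at h
      have hlt : app (T.code x) a ^^^ a < 256 := Nat.xor_lt_two_pow (n := 8) (app_lt _ _) ha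
      rcases memΛ.1 h with h | h
      · exact Or.inl (Nat.xor_eq_zero_iff.1 (T.vec_ker _ hlt h))
      · right
        rw [← Nat.xor_zero (app (T.code x) a), ← Nat.xor_self a, ← Nat.xor_assoc, T.vec_inj hlt v1 h,
          Nat.xor_comm]
    refine hsmall x hx (hXV _ (X.mul_mem hx hx) (T.ker _ (L.mul_mem hxL hxL) ?_))
    rw [T.code_mul x hxL x hxL]
    refine code_ext (isCode_cmp _ _) isCode_idm fun a ha => ?_
    rw [app_idm ha, app_cmp]
    rcases key a ha with e | e
    · rw [e, e]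
    · rw [e, app_xor, e, e1, Nat.xor_assoc, Nat.xor_self, Nat.xor_zero]
  -- two commuting elements of order three fixing `1` generate the odd core by centralisers
  obtain ⟨f0, -, f2, -, -, f02, -, -, g01, -, -, -, -, -, -, -, fne⟩ := frame_props
  obtain ⟨a, ha, b, hb, hax, hby, hao, hbo, hab⟩ := T.lift_pair f0 f2 f02
  have hXle : X ≤ L := T.le_of_three ha hao hb hbo hab (by rw [hax, hby]; exact fne.1)
    (by rw [hax, hby]; exact fne.2)
    (hnorm a (memD.2 ((T.commute_vec ha v1).2 (by rw [hax, g01]))))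
    (hnorm b (memD.2 ((T.commute_vec hb v1).2 (by rw [hby, root_fix]))))
    (fun x hx hxL h3 => by
      rcases memΛ.1 (hXL x hx hxL) with h | h
      · exact h
      · rw [h, T.vec_sq v1, one_mul] at h3
        rw [h, h3])
  -- the image of `2` is central
  refine T.two_fusion hg ?_
  have hgD : g ∈ D := memD.2 hg
  have hc := Invol.zstar hiso (π ⟨g, hgD⟩)
  rw [← hzd, ← map_inv, ← map_inv, ← map_mul, ← map_mul, ← map_mul] at hc
  have hcX : T.vec 2 * g * (T.vec 2)⁻¹ * g⁻¹ ∈ X :=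
    memX.2 ⟨D.mul_mem (D.mul_mem (D.mul_mem h2D hgD) (D.inv_mem h2D)) (D.inv_mem hgD), hc⟩
  have h := V.mul_mem (T.vec_mem 2 v2) (hΛV _ (hXL _ hcX (hXle hcX)))
  rwa [← mul_assoc, ← mul_assoc, ← mul_assoc, T.vec_sq v2, one_mul, T.vec_inv v2] at h

end Tw

end Cfsg.Agent.U62Three.C
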